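import Groth.Agent.H27Disp.Rigid
import Groth.Prelude.Def_Disp2

/-! # Base change of the operator `V^#` -/

set_option autoImplicit false

namespace Groth.Agent.H27Disp

open WittVector Dieu

universe u v

variable {p : ℕ} [hp : Fact p.Prime] {S R : Type u} [CommRing S] [CommRing R] (f : S →+* R)
variable (P : Type v) [AddCommGroup P] [Module (WittVector p S) P]

/-- `w ⊗ x ↦ W(f) w ⊗ (1 ⊗ x)` for compatible twists `a`, `b`. -/
noncomputable def bcE (a : WittVector p S →+* WittVector p S) (b : WittVector p R →+* WittVector p R)
    (hab : ∀ w, WittVector.map f (a w) = b (WittVector.map f w)) :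
    BC a P →ₛₗ[(WittVector.map f : WittVector p S →+* WittVector p R)]
      BC b (BC (WittVector.map f : WittVector p S →+* WittVector p R) P) :=
  letI : Module (WittVector p S) (BC b (BC (WittVector.map f : WittVector p S →+* WittVector p R) P)) :=
    Module.compHom _ (WittVector.map f : WittVector p S →+* WittVector p R)
  let φ : P →ₛₗ[a] BC b (BC (WittVector.map f : WittVector p S →+* WittVector p R) P) :=
    { toFun := fun x => BC.ι b _ (BC.ι _ P x)
      map_add' := fun x y => by rw [map_add, map_add]
      map_smul' := fun w x => by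
        rw [LinearMap.map_smulₛₗ, LinearMap.map_smulₛₗ, ← hab]
        rfl }
  { toFun := fun z => BC.lift a φ z
    map_add' := fun x y => map_add _ x y
    map_smul' := fun w z => (BC.lift a φ).map_smul w z }

theorem bcE_tmul (a : WittVector p S →+* WittVector p S) (b : WittVector p R →+* WittVector p R)
    (hab : ∀ w, WittVector.map f (a w) = b (WittVector.map f w)) (w : WittVector p S) (x : P) :
    bcE f P a b hab (BC.tmul a w x) =
      BC.tmul b (WittVector.map f w) (BC.tmul (WittVector.map f : WittVector p S →+* WittVector p R) 1 x) := by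
  letI : Module (WittVector p S) (BC b (BC (WittVector.map f : WittVector p S →+* WittVector p R) P)) :=
    Module.compHom _ (WittVector.map f : WittVector p S →+* WittVector p R)
  refine (BC.lift_tmul a _ w x).trans ?_
  show WittVector.map f w • BC.ι b _ (BC.ι _ P x) = _
  rw [BC.ι_apply, BC.ι_apply, BC.smul_tmul, mul_one]

variable {P}

theorem map_frobenius_pow (n : ℕ) (w : WittVector p S) :
    WittVector.map f (((WittVector.frobenius : WittVector p S →+* WittVector p S) ^ n) w) =
      ((WittVector.frobenius : WittVector p R →+* WittVector p R) ^ n) (WittVector.map f w) := by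
  induction n with
  | zero => rfl
  | succ n ih => rw [frobenius_pow_succ_apply, frobenius_pow_succ_apply, map_frobenius, ih]

omit f in
theorem ker_push_le (g : WittVector p S →+* WittVector p R) (Q : Submodule (WittVector p S) P) (z : BC g P)
    (hz : BC.push g (WittVector.constantCoeff : WittVector p R →+* R) (BC.map g Q.mkQ z) = 0) :
    z ∈ Submodule.span (WittVector p R)
      ({z | ∃ y ∈ Q, z = BC.tmul g 1 y} ∪
        {z | ∃ (u : WittVector p R) (x : P), z = BC.tmul g (verschiebung u) x}) := by
  classical
  let c : WittVector p S →+* R := (WittVector.constantCoeff : WittVector p R →+* R).comp g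
  let G : Submodule (WittVector p R) (BC g P) := Submodule.span (WittVector p R)
      ({z | ∃ y ∈ Q, z = BC.tmul g 1 y} ∪ {z | ∃ (u : WittVector p R) (x : P), z = BC.tmul g (verschiebung u) x})
  have hcong : ∀ (u w : WittVector p R) (x : P), u.coeff 0 = w.coeff 0 →
      G.mkQ (BC.tmul g u x) = G.mkQ (BC.tmul g w x) := by
    intro u w x h
    rw [Submodule.mkQ_apply, Submodule.mkQ_apply, Submodule.Quotient.eq]
    have h0 : (u - w).coeff 0 = 0 := by
      show WittVector.constantCoeff (u - w) = 0
      rw [map_sub, sub_eq_zero]; exact h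
    have h1 : BC.tmul g u x - BC.tmul g w x = BC.tmul g (u - w) x := by
      rw [sub_eq_iff_eq_add, ← BC.add_tmul, sub_add_cancel]
    rw [h1, show u - w = verschiebung ((u - w).shift 1) by
      conv_lhs => rw [H27Witt.eq_teichmuller_add_verschiebung (u - w), h0, teichmuller_zero, zero_add]]
    exact Submodule.subset_span (Or.inr ⟨_, _, rfl⟩)
  have hQ : ∀ (u : WittVector p R), ∀ y ∈ Q, G.mkQ (BC.tmul g u y) = 0 := fun u y hy => by
    rw [Submodule.mkQ_apply, Submodule.Quotient.mk_eq_zero, BC.tmul_eq_smul_tmul_one]
    exact G.smul_mem u (Submodule.subset_span (Or.inl ⟨y, hy, rfl⟩))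
  let inner : R → (P ⧸ Q) →+ (BC g P ⧸ G) := fun r =>
    QuotientAddGroup.lift Q.toAddSubgroup
      (AddMonoidHom.mk' (fun x => G.mkQ (BC.tmul g (teichmuller p r) x)) (fun x y => by rw [BC.tmul_add, map_add]))
      (fun y hy => hQ _ y hy)
  have hinner : ∀ (r : R) (x : P), inner r (Q.mkQ x) = G.mkQ (BC.tmul g (teichmuller p r) x) := fun r x => rfl
  let outer : Res c →+ (P ⧸ Q) →+ (BC g P ⧸ G) := AddMonoidHom.mk' (fun t => inner t.val) (fun s t => by
    ext m
    obtain ⟨m, rfl⟩ := Submodule.mkQ_surjective Q m
    show inner (s + t).val (Q.mkQ m) = inner s.val (Q.mkQ m) + inner t.val (Q.mkQ m)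
    rw [hinner, hinner, hinner, Res.val_add, ← map_add, ← BC.add_tmul]
    refine hcong _ _ _ ?_
    show WittVector.constantCoeff (teichmuller p (s.val + t.val)) =
      WittVector.constantCoeff (teichmuller p s.val + teichmuller p t.val)
    rw [map_add WittVector.constantCoeff]
    simp [WittVector.constantCoeff, teichmuller_coeff_zero])
  let Φ : BC c (P ⧸ Q) →+ (BC g P ⧸ G) := TensorProduct.liftAddHom outer (fun a t m => by
    obtain ⟨x, rfl⟩ := Submodule.mkQ_surjective Q m
    show inner (a • t).val (Q.mkQ x) = inner t.val (a • Q.mkQ x)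
    rw [← map_smul, hinner, hinner, ← BC.tmul_mul_apply, Res.val_smul]
    refine hcong _ _ _ ?_
    rw [teichmuller_coeff_zero, mul_coeff_zero, teichmuller_coeff_zero, mul_comm]
    rfl)
  have hΦ : ∀ ζ : BC g P, Φ (BC.push g (WittVector.constantCoeff : WittVector p R →+* R) (BC.map g Q.mkQ ζ)) = G.mkQ ζ := by
    intro ζ
    induction ζ using BC.induction_on with
    | zero => simp only [map_zero]
    | tmul b x =>
      rw [BC.map_tmul, BC.push_tmul]
      refine (hcong _ _ _ ?_)
      exact teichmuller_coeff_zero p _
    | add a b ha hb => simp only [map_add, ha, hb]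
  have h := hΦ z
  rw [hz, map_zero, eq_comm, Submodule.mkQ_apply, Submodule.Quotient.mk_eq_zero] at h
  exact h

/-- The kernel of `P_R → R ⊗ P/Q` is spanned by `1 ⊗ Q` and `V W(R) ⊗ P`. -/
theorem ker_bcQuotMap_le (Q : Submodule (WittVector p S) P)
    (z : BC (WittVector.map f : WittVector p S →+* WittVector p R) P) (hz : bcQuotMap f Q z = 0) :
    z ∈ Submodule.span (WittVector p R)
      ({z | ∃ y ∈ Q, z = BC.tmul (WittVector.map f : WittVector p S →+* WittVector p R) 1 y} ∪
        {z | ∃ (u : WittVector p R) (x : P),
          z = BC.tmul (WittVector.map f : WittVector p S →+* WittVector p R) (verschiebung u) x}) :=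
  ker_push_le _ Q z hz

/-- The base change of a display is a display. -/
theorem isDisplay_of_isDispBaseChange (D : W4c1extbt610.Display3n p S P) (hD : Dieu.IsDisplay D)
    (DR : W4c1extbt610.Display3n p R (BC (WittVector.map f : WittVector p S →+* WittVector p R) P))
    (hDR : Dieu.IsDispBaseChange f D DR) : Dieu.IsDisplay DR := by
  classical
  obtain ⟨Vs, hVs, m, hm⟩ := hD
  have hF1 : ∀ x, Vs (D.F x) = (p : WittVector p S) • BC.tmul _ 1 x := fun x => by
    have := hVs.app_smul_F 1 x; rwa [one_smul] at this
  have hV1 : ∀ y : D.Q, Vs (D.Vinv y) = BC.tmul _ 1 (y : P) := fun y => by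
    have := hVs.app_smul_Vinv 1 y; rwa [one_smul] at this
  let e := bcE f P (WittVector.frobenius : WittVector p S →+* WittVector p S)
    (WittVector.frobenius : WittVector p R →+* WittVector p R) (map_frobenius f)
  let VR := BC.lift (WittVector.map f : WittVector p S →+* WittVector p R) (e.comp Vs)
  have hVR : ∀ (w : WittVector p R) (x : P), VR (BC.tmul _ w x) = w • e (Vs x) := fun w x => BC.lift_tmul _ _ w x
  have hFe : ∀ x, e (Vs (D.F x)) = (p : WittVector p R) •
      BC.tmul (WittVector.frobenius : WittVector p R →+* WittVector p R) 1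
        (BC.tmul (WittVector.map f : WittVector p S →+* WittVector p R) 1 x) := fun x => by
    rw [hF1, LinearMap.map_smulₛₗ, map_natCast, bcE_tmul, map_one]
  refine ⟨VR, ⟨?_, ?_⟩, m, ?_⟩
  · intro w x
    induction x using BC.induction_on with
    | zero => simp
    | tmul a y =>
      rw [hDR.F_tmul, BC.smul_tmul, hVR, hFe, smul_smul, mul_comm _ (p : WittVector p R), ← smul_smul,
        BC.smul_tmul, mul_one, BC.tmul_mul_apply]
      simp only [BC.smul_tmul, mul_one]
    | add a b ha hb => rw [map_add, smul_add, map_add, ha, hb, BC.tmul_add, smul_add]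
  · intro w y
    obtain ⟨z, hzQ⟩ := y
    have hz : bcQuotMap f D.Q z = 0 := by
      have h := hzQ
      rw [hDR.Q_eq] at h
      exact h
    have hmem := ker_bcQuotMap_le f D.Q z hz
    suffices ∀ (h : z ∈ DR.Q) (w : WittVector p R),
        VR (w • DR.Vinv ⟨z, h⟩) = BC.tmul _ w z from this hzQ w
    clear hzQ hz w
    have hgen : ∀ x ∈ Submodule.span (WittVector p R)
      ({z | ∃ y ∈ D.Q, z = BC.tmul (WittVector.map f : WittVector p S →+* WittVector p R) 1 y} ∪
        {z | ∃ (u : WittVector p R) (x : P),
          z = BC.tmul (WittVector.map f : WittVector p S →+* WittVector p R) (verschiebung u) x}), x ∈ DR.Q := by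
      refine Submodule.span_le.mpr ?_
      rintro _ (⟨y, hy, rfl⟩ | ⟨u, x, rfl⟩) <;> rw [SetLike.mem_coe, hDR.Q_eq, LinearMap.mem_ker, bcQuotMap_tmul]
      · rw [Submodule.mkQ_apply, (Submodule.Quotient.mk_eq_zero _).mpr hy, BC.tmul_zero]
      · rw [show WittVector.constantCoeff (verschiebung u) = 0 from verschiebung_coeff_zero u, BC.zero_tmul]
    induction hmem using Submodule.span_induction with
    | mem y hy =>
      intro h w
      rcases hy with ⟨y, hy, rfl⟩ | ⟨u, x, rfl⟩
      · rw [hDR.Vinv_tmul 1 ⟨y, hy⟩ h, map_one, BC.smul_tmul, mul_one, hVR, hV1, bcE_tmul, map_one,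
          BC.smul_tmul, mul_one]
      · rw [hDR.Vinv_verschiebung_tmul, BC.smul_tmul, hVR, hFe, smul_smul, BC.smul_tmul, mul_one, mul_assoc,
          ← frobenius_verschiebung, BC.tmul_mul_apply, BC.smul_tmul, mul_one]
    | zero =>
      intro h w
      rw [show (⟨0, h⟩ : DR.Q) = 0 from rfl, map_zero, smul_zero, map_zero, BC.tmul_zero]
    | add a b ha hb iha ihb =>
      intro h w
      rw [show (⟨a + b, h⟩ : DR.Q) = ⟨a, hgen a ha⟩ + ⟨b, hgen b hb⟩ from rfl, map_add, smul_add, map_add,
        iha, ihb, BC.tmul_add]
    | smul c a ha iha =>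
      intro h w
      rw [show (⟨c • a, h⟩ : DR.Q) = c • ⟨a, hgen a ha⟩ from rfl, LinearMap.map_smulₛₗ DR.Vinv, smul_smul, iha,
        BC.tmul_mul_apply]
  · let E := fun k : ℕ => bcE f P ((WittVector.frobenius : WittVector p S →+* WittVector p S) ^ (k + 1))
      ((WittVector.frobenius : WittVector p R →+* WittVector p R) ^ (k + 1)) (map_frobenius_pow f (k + 1))
    have key : ∀ (k : ℕ) (x : P), vSharpPow VR k (BC.tmul _ 1 x) = E k (vSharpPow Vs k x) := by
      intro k
      induction k with
      | zero =>
        intro x
        rw [vSharpPow_zero_apply, vSharpPow_zero_apply, hVR, one_smul]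
        generalize Vs x = ζ
        induction ζ using BC.induction_on with
        | zero => simp
        | tmul b y => simp only [e, E, bcE_tmul, BC.castHom_tmul]
        | add a b ha hb => simp only [map_add, ha, hb]
      | succ k ih =>
        intro x
        rw [vSharpPow_succ_apply, vSharpPow_succ_apply, hVR, one_smul]
        generalize Vs x = ζ
        induction ζ using BC.induction_on with
        | zero => simp
        | tmul b y =>
          rw [bcE_tmul, BC.map_tmul, BC.map_tmul, BC.lift_tmul, BC.lift_tmul, map_smul, map_smul,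
            LinearMap.map_smulₛₗ, ih]
          congr 1
          generalize vSharpPow Vs k y = η
          induction η using BC.induction_on with
          | zero => simp
          | tmul c z =>
            simp only [E, bcE_tmul, BC.push_tmul, BC.castHom_tmul]
            rw [map_frobenius]
          | add a b ha hb => simp only [map_add, ha, hb]
        | add a b ha hb => simp only [map_add, ha, hb]
    intro z
    induction z using BC.induction_on with
    | zero => simp
    | tmul b x =>
      rw [BC.tmul_eq_smul_tmul_one, map_smul, key]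
      refine Submodule.smul_mem _ b ?_
      refine Submodule.smul_induction_on (p := fun η => E m η ∈ _) (hm x) (fun w hw η _ => ?_) (fun a b ha hb => ?_)
      · rw [LinearMap.map_smulₛₗ]
        refine Submodule.smul_mem_smul ?_ Submodule.mem_top
        obtain ⟨a, ha, b, hb, rfl⟩ := Submodule.mem_sup.mp hw
        obtain ⟨c, rfl⟩ := Ideal.mem_span_singleton'.mp hb
        rw [map_add, map_mul, map_natCast]
        refine Submodule.add_mem_sup ?_ (Ideal.mul_mem_left _ _ (Ideal.mem_span_singleton_self _))
        rw [show a = verschiebung (a.shift 1) by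
          conv_lhs => rw [H27Witt.eq_teichmuller_add_verschiebung a, coeff_zero_of_mem_IV ha, teichmuller_zero,
            zero_add], map_verschiebung]
        exact W4c1extbt610.verschiebung_mem_IV p R _
      · rw [map_add]; exact add_mem ha hb
    | add a b ha hb => rw [map_add]; exact add_mem ha hb

end Groth.Agent.H27Disp
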