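import Groth.Agent.H9Hens.IdemMatrix
import Mathlib

/-! # Idempotent endomorphisms of finite projective modules lift over henselian pairs -/

set_option autoImplicit false

namespace Groth.Agent.H27Disp

universe u v

theorem pi_mem_smul_top {A : Type u} [CommRing A] (I : Ideal A) {ι : Type*} [Finite ι] (x : ι → A)
    (hx : ∀ i, x i ∈ I) : x ∈ I • (⊤ : Submodule A (ι → A)) := by
  classical
  cases nonempty_fintype ι
  rw [pi_eq_sum_univ x]
  exact sum_mem fun i _ => Submodule.smul_mem_smul (hx i) Submodule.mem_top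

theorem map_mem_smul_top {A : Type u} [CommRing A] (I : Ideal A) {M : Type*} [AddCommGroup M] [Module A M]
    {N : Type*} [AddCommGroup N] [Module A N] (f : M →ₗ[A] N) {x : M} (hx : x ∈ I • (⊤ : Submodule A M)) :
    f x ∈ I • (⊤ : Submodule A N) := by
  have h := Submodule.mem_map_of_mem (f := f) hx
  rw [Submodule.map_smul''] at h
  exact Submodule.smul_mono le_rfl le_top h

/-- An endomorphism which is idempotent mod `I` is congruent to an idempotent. -/
theorem exists_idem_end {A : Type u} [CommRing A] (I : Ideal A) [HenselianRing A I]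
    {M : Type v} [AddCommGroup M] [Module A M] [Module.Finite A M] [Module.Projective A M]
    (f : M →ₗ[A] M) (hf : ∀ x, f (f x) - f x ∈ I • (⊤ : Submodule A M)) :
    ∃ e : M →ₗ[A] M, e ∘ₗ e = e ∧ ∀ x, e x - f x ∈ I • (⊤ : Submodule A M) := by
  classical
  obtain ⟨n, g, hg⟩ := Module.Finite.exists_fin' A M
  obtain ⟨s, hs⟩ := Module.projective_lifting_property g LinearMap.id hg
  have hgs : ∀ x, g (s x) = x := fun x => LinearMap.congr_fun hs x
  let F : (Fin n → A) →ₗ[A] (Fin n → A) := s ∘ₗ f ∘ₗ g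
  have hcoord : ∀ {x : Fin n → A}, x ∈ I • (⊤ : Submodule A (Fin n → A)) → ∀ i, x i ∈ I := fun hx i => by
    have := map_mem_smul_top I (LinearMap.proj i : (Fin n → A) →ₗ[A] A) hx
    simpa [smul_eq_mul] using this
  have hFF : ∀ v i, F (F v) i - F v i ∈ I := fun v i => by
    have h := hcoord (map_mem_smul_top I s (hf (g v))) i
    simpa [F, hgs] using h
  obtain ⟨E, hE, hEmap⟩ := H9Hens.exists_idem_matrix_lift ((LinearMap.toMatrix' F).map (Ideal.Quotient.mk I)) (by
    show (LinearMap.toMatrix' F).map _ * (LinearMap.toMatrix' F).map _ = _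
    rw [← Matrix.map_mul, ← LinearMap.toMatrix'_comp]
    ext i j
    simp only [Matrix.map_apply, LinearMap.toMatrix'_apply, LinearMap.comp_apply]
    rw [Ideal.Quotient.eq]
    exact hFF _ i)
  let e' : (Fin n → A) →ₗ[A] (Fin n → A) := Matrix.toLin' E
  have he' : ∀ v, e' (e' v) = e' v := fun v => by
    show Matrix.toLin' E (Matrix.toLin' E v) = _
    rw [← LinearMap.comp_apply, ← Matrix.toLin'_mul, hE.eq]
  have hEF : ∀ v, e' v - F v ∈ I • (⊤ : Submodule A (Fin n → A)) := fun v => by
    refine pi_mem_smul_top I _ fun i => ?_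
    have hv : F v = Matrix.toLin' (LinearMap.toMatrix' F) v := by rw [Matrix.toLin'_toMatrix']
    rw [hv, Pi.sub_apply, ← Ideal.Quotient.eq]
    show Ideal.Quotient.mk I (E.mulVec v i) = Ideal.Quotient.mk I ((LinearMap.toMatrix' F).mulVec v i)
    rw [RingHom.map_mulVec, RingHom.map_mulVec, hEmap]
  let ψ : M →ₗ[A] LinearMap.range e' := e'.rangeRestrict ∘ₗ s
  let φ : LinearMap.range e' →ₗ[A] M := g ∘ₗ (LinearMap.range e').subtype
  let θ : LinearMap.range e' →ₗ[A] LinearMap.range e' := ψ ∘ₗ φ
  have hθ : ∀ v, θ v - v ∈ I • (⊤ : Submodule A (LinearMap.range e')) := by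
    rintro ⟨v, hv⟩
    have hfix : e'.rangeRestrict v = ⟨v, hv⟩ := by
      apply Subtype.ext
      obtain ⟨w, rfl⟩ := hv
      exact he' w
    have hveq : v = e' v := (congrArg Subtype.val hfix).symm
    have h1 : s (g v) - v ∈ I • (⊤ : Submodule A (Fin n → A)) := by
      have ha : s (g (e' v - F v)) - (e' v - F v) ∈ I • (⊤ : Submodule A (Fin n → A)) :=
        sub_mem (map_mem_smul_top I (s ∘ₗ g) (hEF v)) (hEF v)
      have hb : s (g (F v)) = F v := by simp [F, hgs]
      rw [map_sub, map_sub, hb, sub_sub_sub_cancel_right] at ha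
      rwa [← hveq] at ha
    have h2 := map_mem_smul_top I e'.rangeRestrict h1
    rw [map_sub, hfix] at h2
    exact h2
  have hsurj : Function.Surjective θ := by
    rw [← LinearMap.range_eq_top, ← top_le_iff]
    haveI : Module.Finite A (LinearMap.range e') := Module.Finite.range e'
    refine Submodule.le_of_le_smul_of_le_jacobson_bot (I := I) Module.Finite.fg_top (HenselianRing.jac (I := I)) fun v _ => ?_
    rw [← sub_sub_cancel (θ v) v]
    exact Submodule.sub_mem _ (Submodule.mem_sup_left ⟨v, rfl⟩) (Submodule.mem_sup_right (hθ v))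
  haveI : Module.Finite A (LinearMap.range e') := Module.Finite.range e'
  let Θ := LinearEquiv.ofBijective θ (OrzechProperty.bijective_of_surjective_endomorphism θ hsurj)
  refine ⟨φ ∘ₗ Θ.symm.toLinearMap ∘ₗ ψ, LinearMap.ext fun x => ?_, fun x => ?_⟩
  · show φ (Θ.symm (ψ (φ (Θ.symm (ψ x))))) = φ (Θ.symm (ψ x))
    congr 1
    exact LinearEquiv.symm_apply_apply Θ _
  · have h1 : Θ.symm (ψ x) - ψ x ∈ I • (⊤ : Submodule A (LinearMap.range e')) := by
      have h := hθ (Θ.symm (ψ x))
      rw [show θ (Θ.symm (ψ x)) = ψ x from Θ.apply_symm_apply _] at h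
      rw [← neg_sub]
      exact neg_mem h
    have h2 := map_mem_smul_top I φ h1
    have h3 : φ (ψ x) - f x ∈ I • (⊤ : Submodule A M) := by
      have h := map_mem_smul_top I g (hEF (s x))
      rw [map_sub, show g (F (s x)) = f x by simp [F, hgs]] at h
      exact h
    have h4 := add_mem h2 h3
    rw [map_sub, sub_add_sub_cancel] at h4
    exact h4

end Groth.Agent.H27Disp
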