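import Groth.Agent.H27Disp.Rigid
import Groth.Agent.H3CAlg.WittProjective
import Groth.Prelude.Def_Disp2

/-! # The linearisation of `V⁻¹ ⊕ F` is bijective; existence of `V^#` -/

set_option autoImplicit false

namespace Groth.Agent.H27Disp

open WittVector Dieu TensorProduct

universe u v w

section BC

variable {A : Type u} {B : Type w} [CommRing A] [CommRing B] (g : A →+* B)
variable (P : Type v) [AddCommGroup P] [Module A P]

theorem bc_finite_projective_rank [Module.Finite A P] [Module.Projective A P] :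
    Module.Finite B (BC g P) ∧ Module.Projective B (BC g P) ∧
      ∀ q : PrimeSpectrum B, Module.rankAtStalk (BC g P) q = Module.rankAtStalk P (q.comap g) := by
  letI := g.toAlgebra
  letI : Module A (BC g P) := Module.compHom _ g
  haveI : IsScalarTower A B (BC g P) := IsScalarTower.of_algebraMap_smul fun _ _ => rfl
  let ι' : P →ₗ[A] BC g P :=
    { toFun := fun x => BC.ι g P x
      map_add' := map_add _
      map_smul' := fun a x => (BC.ι g P).map_smul' a x }
  let mk' : P →ₛₗ[g] B ⊗[A] P :=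
    { toFun := fun x => (1 : B) ⊗ₜ[A] x
      map_add' := fun x y => TensorProduct.tmul_add _ x y
      map_smul' := fun a x => by
        rw [TensorProduct.tmul_smul, TensorProduct.smul_tmul', TensorProduct.smul_tmul', Algebra.smul_def,
          smul_eq_mul]
        rfl }
  have h1 : (LinearMap.liftBaseChange B ι') ∘ₗ (BC.lift g mk') = LinearMap.id := by
    refine BC.ext g fun x => ?_
    rw [LinearMap.comp_apply, BC.lift_tmul, one_smul]
    show LinearMap.liftBaseChange B ι' ((1 : B) ⊗ₜ[A] x) = _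
    rw [LinearMap.liftBaseChange_tmul, one_smul]
    rfl
  have h2 : (BC.lift g mk') ∘ₗ (LinearMap.liftBaseChange B ι') = LinearMap.id := by
    refine TensorProduct.AlgebraTensorModule.ext fun b x => ?_
    rw [LinearMap.comp_apply, LinearMap.liftBaseChange_tmul, map_smul]
    show b • BC.lift g mk' (BC.ι g P x) = _
    rw [BC.lift_ι]
    show b • ((1 : B) ⊗ₜ[A] x) = _
    rw [TensorProduct.smul_tmul', smul_eq_mul, mul_one]
    rfl
  let e : (B ⊗[A] P) ≃ₗ[B] BC g P := LinearEquiv.ofLinear _ _ h1 h2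
  refine ⟨Module.Finite.equiv e, Module.Projective.of_equiv e, fun q => ?_⟩
  rw [← Module.rankAtStalk_eq_of_equiv e, Module.rankAtStalk_baseChange]
  rfl

end BC

theorem bijective_of_surjective_of_rank {A : Type*} [CommRing A] {M N : Type*} [AddCommGroup M] [Module A M]
    [AddCommGroup N] [Module A N] (hMf : Module.Finite A M) (hMp : Module.Projective A M)
    (hNf : Module.Finite A N) (hNp : Module.Projective A N) (f : M →ₗ[A] N) (hs : Function.Surjective f)
    (h : ∀ (m : Ideal A) (hm : m.IsMaximal),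
      Module.rankAtStalk M ⟨m, hm.isPrime⟩ = Module.rankAtStalk N ⟨m, hm.isPrime⟩) : Function.Bijective f :=
  Module.bijective_of_surjective_of_rankAtStalk_eq hs fun m hm => h m hm

section Witt

variable {p : ℕ} [hp : Fact p.Prime] {R : Type u} [CommRing R]

theorem frobenius_sub_pow_mem (x : WittVector p R) :
    WittVector.frobenius x - x ^ p ∈ Ideal.span {(p : WittVector p R)} := by
  have hpp := Ideal.mem_span_singleton_self (p : WittVector p R)
  obtain ⟨r, hr⟩ := exists_add_pow_prime_eq hp.out (teichmuller p (x.coeff 0)) (verschiebung (x.shift 1))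
  have hV : verschiebung (x.shift 1) ^ p ∈ Ideal.span {(p : WittVector p R)} := by
    obtain ⟨k, hk⟩ : ∃ k, p = k + 2 := ⟨p - 2, by have := hp.out.two_le; omega⟩
    have h2 : verschiebung (x.shift 1) * verschiebung (x.shift 1) ∈ Ideal.span {(p : WittVector p R)} := by
      rw [← verschiebung_mul_frobenius, frobenius_verschiebung, ← mul_assoc]
      have : ∀ w : WittVector p R, verschiebung (w * (p : WittVector p R)) = (p : WittVector p R) * verschiebung w := fun w => by
        rw [mul_comm w, ← nsmul_eq_mul, map_nsmul, nsmul_eq_mul]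
      rw [this]
      exact Ideal.mul_mem_right _ _ hpp
    have he : verschiebung (x.shift 1) ^ p =
        verschiebung (x.shift 1) * verschiebung (x.shift 1) * verschiebung (x.shift 1) ^ k := by
      rw [← pow_two, ← pow_add, add_comm 2 k, ← hk]
    rw [he]
    exact Ideal.mul_mem_right _ _ h2
  rw [show WittVector.frobenius x - x ^ p =
      WittVector.frobenius (teichmuller p (x.coeff 0) + verschiebung (x.shift 1)) -
        (teichmuller p (x.coeff 0) + verschiebung (x.shift 1)) ^ p by
      rw [← H27Witt.eq_teichmuller_add_verschiebung x], hr, map_add, frobenius_teichmuller',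
    frobenius_verschiebung, map_pow]
  rw [show ∀ a b c d : WittVector p R, a + b - (a + c + d) = b - c - d from fun a b c d => by ring]
  refine sub_mem (sub_mem (Ideal.mul_mem_left _ _ hpp) hV) ?_
  rw [mul_assoc, mul_assoc]
  exact Ideal.mul_mem_right _ _ hpp

theorem exists_verschiebung_of_mem_IV {a : WittVector p R} (ha : a ∈ W4c1extbt610.IV p R) :
    a = verschiebung (a.shift 1) := by
  conv_lhs => rw [H27Witt.eq_teichmuller_add_verschiebung a, coeff_zero_of_mem_IV ha, teichmuller_zero, zero_add]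

theorem p_mem_of_isMaximal (hR : IsNilpotent (p : R)) (m : Ideal (WittVector p R)) [m.IsMaximal] :
    (p : WittVector p R) ∈ m := by
  haveI := H3CAlg.WittProj.isAdicComplete_VI (p := p) (R := R) hR
  obtain ⟨k, hk⟩ := hR
  have h : (p : WittVector p R) ^ k ∈ H3CAlg.WittProj.VI p R := by
    rw [RingHom.mem_ker, map_pow, map_natCast, hk]
  exact Ideal.IsPrime.mem_of_pow_mem ‹m.IsMaximal›.isPrime k
    ((IsAdicComplete.le_jacobson_bot (H3CAlg.WittProj.VI p R)).trans (sInf_le ⟨bot_le, ‹_›⟩) h)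

variable {P : Type v} [AddCommGroup P] [Module (WittVector p R) P]

/-- The linearisation of `V⁻¹ ⊕ F` for a normal decomposition is bijective. -/
theorem exists_linearisation (hR : IsNilpotent (p : R)) (D : W4c1extbt610.Display3n p R P)
    (L T : Submodule (WittVector p R) P) (hLT : IsCompl L T) (hQ : D.Q = L ⊔ W4c1extbt610.IV p R • T) :
    ∃ ν : P →ₛₗ[(WittVector.frobenius : WittVector p R →+* WittVector p R)] P,
      (∀ (l : P) (_ : l ∈ L) (h : l ∈ D.Q), ν l = D.Vinv ⟨l, h⟩) ∧ (∀ t ∈ T, ν t = D.F t) ∧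
        Function.Bijective (BC.lift (WittVector.frobenius : WittVector p R →+* WittVector p R) ν) := by
  classical
  haveI := D.finite
  haveI := D.projective
  have hLQ : L ≤ D.Q := hQ ▸ le_sup_left
  let πL : P →ₗ[WittVector p R] L := L.projectionOnto T hLT
  let πT : P →ₗ[WittVector p R] P := LinearMap.id - L.subtype ∘ₗ πL
  let πQ : P →ₗ[WittVector p R] D.Q := Submodule.inclusion hLQ ∘ₗ πL
  let ν := D.Vinv.comp πQ + D.F.comp πT
  have hLl : ∀ l (hl : l ∈ L), πL l = ⟨l, hl⟩ := fun l hl => Submodule.projectionOnto_apply_left hLT ⟨l, hl⟩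
  have hTt : ∀ t ∈ T, πL t = 0 := fun t ht => Submodule.projectionOnto_apply_right hLT ⟨t, ht⟩
  have hν1 : ∀ (l : P) (_ : l ∈ L) (h : l ∈ D.Q), ν l = D.Vinv ⟨l, h⟩ := fun l hl h => by
    simp [ν, πQ, πT, hLl l hl]
    rfl
  have hν2 : ∀ t ∈ T, ν t = D.F t := fun t ht => by
    simp [ν, πQ, πT, hTt t ht]
  refine ⟨ν, hν1, hν2, ?_⟩
  set Φ := BC.lift (WittVector.frobenius : WittVector p R →+* WittVector p R) ν with hΦ
  have hsurj : Function.Surjective Φ := by
    rw [← LinearMap.range_eq_top, ← top_le_iff, ← D.span_range_Vinv, Submodule.span_le]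
    rintro _ ⟨⟨q, hq⟩, rfl⟩
    have hq' := hq
    rw [hQ, Submodule.mem_sup] at hq'
    obtain ⟨l, hl, s, hs, rfl⟩ := hq'
    have hsQ : s ∈ D.Q := hQ ▸ Submodule.mem_sup_right hs
    rw [SetLike.mem_coe, show (⟨l + s, hq⟩ : D.Q) = ⟨l, hLQ hl⟩ + ⟨s, hsQ⟩ from rfl, map_add]
    refine add_mem ⟨BC.ι _ P l, ?_⟩ ?_
    · rw [hΦ, BC.lift_ι, hν1 l hl]
    · have hle : W4c1extbt610.IV p R • T ≤ D.Q := hQ ▸ le_sup_right
      induction hs using Submodule.smul_induction_on' with
      | smul a ha t ht =>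
        have h' : verschiebung (a.shift 1) • t ∈ D.Q := (exists_verschiebung_of_mem_IV ha) ▸ hsQ
        have he : (⟨a • t, hsQ⟩ : D.Q) = ⟨verschiebung (a.shift 1) • t, h'⟩ :=
          Subtype.ext (show a • t = verschiebung (a.shift 1) • t by rw [← exists_verschiebung_of_mem_IV ha])
        rw [he, D.Vinv_verschiebung_smul]
        exact Submodule.smul_mem _ _ ⟨BC.ι _ P t, by rw [hΦ, BC.lift_ι, hν2 t ht]⟩
      | add x hx y hy ihx ihy =>
        rw [show (⟨x + y, hsQ⟩ : D.Q) = ⟨x, hle hx⟩ + ⟨y, hle hy⟩ from rfl, map_add]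
        exact add_mem (ihx (add_mem (hLQ hl) (hle hx)) (hle hx)) (ihy (add_mem (hLQ hl) (hle hy)) (hle hy))
  obtain ⟨hfin, hproj, hrank⟩ :=
    bc_finite_projective_rank (WittVector.frobenius : WittVector p R →+* WittVector p R) P
  refine bijective_of_surjective_of_rank hfin hproj D.finite D.projective Φ hsurj fun m _ => ?_
  refine (hrank _).trans ?_
  congr 1
  refine PrimeSpectrum.ext (Ideal.ext fun x => ?_)
  show WittVector.frobenius x ∈ m ↔ x ∈ m
  have hmem : WittVector.frobenius x - x ^ p ∈ m :=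
    (Ideal.span_singleton_le_iff_mem (I := m)).mpr (p_mem_of_isMaximal hR m) (frobenius_sub_pow_mem x)
  constructor
  · intro h
    exact Ideal.IsPrime.mem_of_pow_mem ‹m.IsMaximal›.isPrime p (by simpa using m.sub_mem h hmem)
  · intro h
    have := m.add_mem hmem (m.pow_mem_of_mem h p hp.out.pos)
    simpa using this

theorem vSharp_unique (D : W4c1extbt610.Display3n p R P)
    {Vs Vs' : P →ₗ[WittVector p R] BC (WittVector.frobenius : WittVector p R →+* WittVector p R) P}
    (h : Dieu.IsVSharp D Vs) (h' : Dieu.IsVSharp D Vs') : Vs = Vs' := by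
  refine LinearMap.ext_on D.span_range_Vinv ?_
  rintro _ ⟨y, rfl⟩
  have h1 := h.app_smul_Vinv 1 y
  have h2 := h'.app_smul_Vinv 1 y
  rw [one_smul] at h1 h2
  rw [h1, h2]

/-- `V^#` exists, and it is zero modulo `p` on `F` of the complement of a normal decomposition. -/
theorem exists_vSharp (hR : IsNilpotent (p : R)) (D : W4c1extbt610.Display3n p R P) :
    ∃ Vs : P →ₗ[WittVector p R] BC (WittVector.frobenius : WittVector p R →+* WittVector p R) P,
      Dieu.IsVSharp D Vs := by
  classical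
  obtain ⟨L, T, hLT, hQ⟩ := D.exists_normal
  have hLQ : L ≤ D.Q := hQ ▸ le_sup_left
  obtain ⟨ν, hν1, hν2, hb⟩ := exists_linearisation hR D L T hLT hQ
  let Φ := LinearEquiv.ofBijective (BC.lift (WittVector.frobenius : WittVector p R →+* WittVector p R) ν) hb
  let πL : P →ₗ[WittVector p R] P := L.subtype ∘ₗ L.projectionOnto T hLT
  let π : P →ₗ[WittVector p R] P := πL + (p : WittVector p R) • (LinearMap.id - πL)
  have hπl : ∀ l ∈ L, π l = l := fun l hl => by
    have : πL l = l := congrArg Subtype.val (Submodule.projectionOnto_apply_left hLT ⟨l, hl⟩)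
    simp [π, this]
  have hπt : ∀ t ∈ T, π t = (p : WittVector p R) • t := fun t ht => by
    have : πL t = 0 := congrArg Subtype.val (Submodule.projectionOnto_apply_right hLT ⟨t, ht⟩)
    simp [π, this]
  let ρ := BC.map (WittVector.frobenius : WittVector p R →+* WittVector p R) π
  let Vs := ρ ∘ₗ Φ.symm.toLinearMap
  have hΦ : ∀ x, Φ.symm (ν x) = BC.tmul _ 1 x := fun x => by
    rw [LinearEquiv.symm_apply_eq]
    exact ((BC.lift_tmul _ ν 1 x).trans (one_smul _ _)).symm
  have hp : ∀ x : P, BC.tmul (WittVector.frobenius : WittVector p R →+* WittVector p R) 1 ((p : WittVector p R) • x) =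
      (p : WittVector p R) • BC.tmul _ 1 x := fun x => by
    rw [← BC.tmul_mul_apply, map_natCast, one_mul, BC.tmul_eq_smul_tmul_one]
  have hVν : ∀ x, Vs (ν x) = BC.tmul _ 1 (π x) := fun x => by
    show ρ (Φ.symm (ν x)) = _
    rw [hΦ, BC.map_tmul]
  have hF : ∀ x, Vs (D.F x) = (p : WittVector p R) • BC.tmul _ 1 x := by
    intro x
    obtain ⟨l, hl, t, ht, rfl⟩ := Submodule.mem_sup.mp
      (hLT.sup_eq_top ▸ Submodule.mem_top : x ∈ L ⊔ T)
    have hm : verschiebung (1 : WittVector p R) • l ∈ D.Q := D.Q.smul_mem _ (hLQ hl)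
    have hFl : D.F l = (p : WittVector p R) • ν l := by
      have h := D.Vinv_verschiebung_smul 1 l
      rw [one_smul] at h
      rw [← h, show (⟨verschiebung (1 : WittVector p R) • l, hm⟩ : D.Q) = verschiebung (1 : WittVector p R) • (⟨l, hLQ hl⟩ : D.Q) from rfl,
        LinearMap.map_smulₛₗ D.Vinv, frobenius_verschiebung, one_mul, hν1 l hl]
    rw [map_add D.F, hFl, ← hν2 t ht, map_add, map_smul, hVν, hVν, hπl l hl, hπt t ht, hp, BC.tmul_add, smul_add]
  have hV : ∀ y : D.Q, Vs (D.Vinv y) = BC.tmul _ 1 (y : P) := by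
    rintro ⟨q, hq⟩
    have hq' := hq
    rw [hQ, Submodule.mem_sup] at hq'
    obtain ⟨l, hl, s, hs, rfl⟩ := hq'
    have hsQ : s ∈ D.Q := hQ ▸ Submodule.mem_sup_right hs
    have hle : W4c1extbt610.IV p R • T ≤ D.Q := hQ ▸ le_sup_right
    rw [show (⟨l + s, hq⟩ : D.Q) = ⟨l, hLQ hl⟩ + ⟨s, hsQ⟩ from rfl, map_add D.Vinv, map_add Vs, Submodule.coe_add, BC.tmul_add,
      ← hν1 l hl (hLQ hl), hVν, hπl l hl]
    congr 1
    induction hs using Submodule.smul_induction_on' with
    | smul a ha t ht =>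
      have h' : verschiebung (a.shift 1) • t ∈ D.Q := (exists_verschiebung_of_mem_IV ha) ▸ hsQ
      have he : (⟨a • t, hsQ⟩ : D.Q) = ⟨verschiebung (a.shift 1) • t, h'⟩ :=
        Subtype.ext (show a • t = verschiebung (a.shift 1) • t by rw [← exists_verschiebung_of_mem_IV ha])
      rw [he, D.Vinv_verschiebung_smul, map_smul, hF, ← BC.tmul_mul_apply]
      rw [one_mul, frobenius_verschiebung, smul_smul, BC.smul_tmul, mul_one]
    | add x hx y hy ihx ihy =>
      rw [show (⟨x + y, hsQ⟩ : D.Q) = ⟨x, hle hx⟩ + ⟨y, hle hy⟩ from rfl, map_add D.Vinv, map_add Vs, Submodule.coe_add, BC.tmul_add,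
        ihx (add_mem (hLQ hl) (hle hx)) (hle hx), ihy (add_mem (hLQ hl) (hle hy)) (hle hy)]
  refine ⟨Vs, ⟨fun w x => ?_, fun w y => ?_⟩⟩
  · rw [map_smul, hF, BC.tmul_eq_smul_tmul_one _ w, smul_comm]
  · rw [map_smul, hV, BC.tmul_eq_smul_tmul_one _ w]

end Witt

end Groth.Agent.H27Disp
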