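import Groth.Agent.H27Disp.BaseChange
import Groth.Agent.H27Disp.VSharp
import Groth.Agent.H27Disp.IdemEnd

/-! # Existence and uniqueness of the base change of a 3n-display -/

set_option autoImplicit false

namespace Groth.Agent.H27Disp

open WittVector Dieu

universe u v

variable {p : ℕ} [hp : Fact p.Prime] {S R : Type u} [CommRing S] [CommRing R] (f : S →+* R)
variable {P : Type v} [AddCommGroup P] [Module (WittVector p S) P]

theorem shift_add_of_coeff_zero {a b : WittVector p R} (ha : a.coeff 0 = 0) (hb : b.coeff 0 = 0) :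
    (a + b).shift 1 = a.shift 1 + b.shift 1 := by
  have h : ∀ {x : WittVector p R}, x.coeff 0 = 0 → x = verschiebung (x.shift 1) := fun {x} hx => by
    conv_lhs => rw [H27Witt.eq_teichmuller_add_verschiebung x, hx, teichmuller_zero, zero_add]
  conv_lhs => rw [h ha, h hb, ← map_add]
  ext n
  rw [shift_coeff, add_comm 1 n, verschiebung_coeff_succ]

theorem shift_verschiebung (a : WittVector p R) : (verschiebung a).shift 1 = a := by
  ext n
  rw [shift_coeff, add_comm 1 n, verschiebung_coeff_succ]

theorem shift_mul_of_coeff_zero (w : WittVector p R) {a : WittVector p R} (ha : a.coeff 0 = 0) :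
    (w * a).shift 1 = WittVector.frobenius w * a.shift 1 := by
  conv_lhs => rw [show a = verschiebung (a.shift 1) by
    conv_lhs => rw [H27Witt.eq_teichmuller_add_verschiebung a, ha, teichmuller_zero, zero_add],
    mul_comm w, ← verschiebung_mul_frobenius, shift_verschiebung, mul_comm]

theorem eq_of_isDispBaseChange (D : W4c1extbt610.Display3n p S P)
    {DR DR' : W4c1extbt610.Display3n p R (BC (WittVector.map f : WittVector p S →+* WittVector p R) P)}
    (h : IsDispBaseChange f D DR) (h' : IsDispBaseChange f D DR') : DR = DR' := by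
  obtain ⟨hQ, hF, hV1, hV2⟩ := h
  obtain ⟨hQ', hF', hV1', hV2'⟩ := h'
  obtain ⟨Q, F, Vi, a1, a2, a3, a4, a5, a6⟩ := DR
  obtain ⟨Q', F', Vi', b1, b2, b3, b4, b5, b6⟩ := DR'
  simp only at hQ hF hV1 hV2 hQ' hF' hV1' hV2'
  subst hQ hQ'
  have eF : F = F' := by
    ext z
    induction z using BC.induction_on with
    | zero => simp
    | tmul w x => rw [hF, hF']
    | add a b ha hb => rw [map_add, map_add, ha, hb]
  have hgen : ∀ x ∈ Submodule.span (WittVector p R)
      ({z | ∃ y ∈ D.Q, z = BC.tmul (WittVector.map f : WittVector p S →+* WittVector p R) 1 y} ∪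
        {z | ∃ (u : WittVector p R) (x : P),
          z = BC.tmul (WittVector.map f : WittVector p S →+* WittVector p R) (verschiebung u) x}),
      x ∈ LinearMap.ker (bcQuotMap f D.Q) := by
    refine Submodule.span_le.mpr ?_
    rintro _ (⟨y, hy, rfl⟩ | ⟨u, x, rfl⟩) <;> rw [SetLike.mem_coe, LinearMap.mem_ker, bcQuotMap_tmul]
    · rw [Submodule.mkQ_apply, (Submodule.Quotient.mk_eq_zero _).mpr hy, BC.tmul_zero]
    · rw [show WittVector.constantCoeff (verschiebung u) = 0 from verschiebung_coeff_zero u, BC.zero_tmul]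
  have eV : Vi = Vi' := by
    refine LinearMap.ext fun q => ?_
    obtain ⟨z, hz⟩ := q
    have hmem := ker_bcQuotMap_le f D.Q z (LinearMap.mem_ker.mp hz)
    induction hmem using Submodule.span_induction with
    | mem y hy =>
      rcases hy with ⟨y, hy, rfl⟩ | ⟨u, x, rfl⟩
      · exact (hV1 1 ⟨y, hy⟩ hz).trans (hV1' 1 ⟨y, hy⟩ hz).symm
      · exact (hV2 u x hz).trans (hV2' u x hz).symm
    | zero => exact (map_zero Vi).trans (map_zero Vi').symm
    | add a b ha hb iha ihb =>
      rw [show (⟨a + b, hz⟩ : LinearMap.ker (bcQuotMap f D.Q)) = ⟨a, hgen a ha⟩ + ⟨b, hgen b hb⟩ from rfl,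
        map_add Vi, map_add Vi', iha, ihb]
    | smul c a ha iha =>
      rw [show (⟨c • a, hz⟩ : LinearMap.ker (bcQuotMap f D.Q)) = c • ⟨a, hgen a ha⟩ from rfl,
        LinearMap.map_smulₛₗ Vi, LinearMap.map_smulₛₗ Vi', iha]
  subst eF eV
  rfl

theorem exists_isDispBaseChange (D : W4c1extbt610.Display3n p S P) :
    ∃ DR : W4c1extbt610.Display3n p R (BC (WittVector.map f : WittVector p S →+* WittVector p R) P),
      IsDispBaseChange f D DR := by
  classical
  haveI := D.finite
  haveI := D.projective
  obtain ⟨L, T, hLT, hQ⟩ := D.exists_normal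
  have hLQ : L ≤ D.Q := hQ ▸ le_sup_left
  have hITQ : W4c1extbt610.IV p S • T ≤ D.Q := hQ ▸ le_sup_right
  obtain ⟨n, gg, hg⟩ := Module.Finite.exists_fin' (WittVector p S) P
  obtain ⟨s, hs⟩ := Module.projective_lifting_property gg LinearMap.id hg
  let v : Fin n → P := fun j => gg (Pi.single j 1)
  have hv : ∀ x, ∑ j, s x j • v j = x := fun x => by
    simp only [v, ← map_smul, ← map_sum]
    rw [← pi_eq_sum_univ' (s x)]
    exact LinearMap.congr_fun hs x
  let πL : P →ₗ[WittVector p S] P := L.subtype ∘ₗ L.projectionOnto T hLT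
  let πT : P →ₗ[WittVector p S] P := LinearMap.id - πL
  have hLl : ∀ l ∈ L, πL l = l := fun l hl =>
    congrArg Subtype.val (Submodule.projectionOnto_apply_left hLT ⟨l, hl⟩)
  have hLt : ∀ t ∈ T, πL t = 0 := fun t ht =>
    congrArg Subtype.val (Submodule.projectionOnto_apply_right hLT ⟨t, ht⟩)
  have hπLL : ∀ x, πL x ∈ L := fun x => (L.projectionOnto T hLT x).2
  have hπTT : ∀ x, πT x ∈ T := fun x => by
    obtain ⟨l, hl, t, ht, rfl⟩ := Submodule.mem_sup.mp (hLT.sup_eq_top ▸ Submodule.mem_top : x ∈ L ⊔ T)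
    simpa [πT, hLl l hl, hLt t ht] using ht
  let g : WittVector p S →+* WittVector p R := WittVector.map f
  let σR : WittVector p R →+* WittVector p R := WittVector.frobenius
  have hcomm : ∀ a, g (WittVector.frobenius a) = σR (g a) := map_frobenius f
  -- the Frobenius
  let φF : P →ₛₗ[σR.comp g] BC g P :=
    { toFun := fun x => BC.ι g P (D.F x)
      map_add' := fun x y => by rw [map_add, map_add]
      map_smul' := fun a x => by rw [LinearMap.map_smulₛₗ, LinearMap.map_smulₛₗ, RingHom.comp_apply, hcomm] }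
  let FR : BC g P →ₛₗ[σR] BC g P := (BC.lift (σR.comp g) φF).comp (BC.push g σR)
  have hFR : ∀ (w : WittVector p R) (x : P), FR (BC.tmul g w x) = BC.tmul g (σR w) (D.F x) := fun w x => by
    show BC.lift (σR.comp g) φF (BC.push g σR (BC.tmul g w x)) = _
    rw [BC.push_tmul, BC.lift_tmul]
    show σR w • BC.ι g P (D.F x) = _
    rw [BC.ι_apply, BC.smul_tmul, mul_one]
  -- `V⁻¹` on the `L` part
  let φG : P →ₛₗ[σR.comp g] BC g P :=
    { toFun := fun x => BC.ι g P (D.Vinv ⟨πL x, hLQ (hπLL x)⟩)
      map_add' := fun x y => by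
        rw [← map_add (BC.ι g P), ← map_add D.Vinv]
        congr 2
        exact Subtype.ext (map_add πL x y)
      map_smul' := fun a x => by
        rw [RingHom.comp_apply, ← hcomm, ← LinearMap.map_smulₛₗ (BC.ι g P), ← LinearMap.map_smulₛₗ D.Vinv]
        congr 2
        exact Subtype.ext (map_smul πL a x) }
  let G : BC g P →ₛₗ[σR] BC g P := (BC.lift (σR.comp g) φG).comp (BC.push g σR)
  have hG : ∀ (w : WittVector p R) (x : P),
      G (BC.tmul g w x) = σR w • BC.tmul g 1 (D.Vinv ⟨πL x, hLQ (hπLL x)⟩) := fun w x => by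
    show BC.lift (σR.comp g) φG (BC.push g σR (BC.tmul g w x)) = _
    rw [BC.push_tmul, BC.lift_tmul]
    rfl
  -- the coordinates of the `T` part
  let c : Fin n → BC g P →ₗ[WittVector p R] WittVector p R := fun j =>
    BC.lift g ((semilinearOfRingHom g).comp ((LinearMap.proj j : (Fin n → WittVector p S) →ₗ[WittVector p S] WittVector p S) ∘ₗ s ∘ₗ πT))
  have hc : ∀ j w x, c j (BC.tmul g w x) = w * g (s (πT x) j) := fun j w x => BC.lift_tmul _ _ w x
  let QR : Submodule (WittVector p R) (BC g P) := LinearMap.ker (bcQuotMap f D.Q)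
  have hIV0 : ∀ {x : WittVector p S}, x.coeff 0 = 0 → (g x).coeff 0 = 0 := fun {x} hx => by
    show (WittVector.map f x).coeff 0 = 0
    rw [map_coeff, hx, map_zero]
  have hc0 : ∀ z ∈ QR, ∀ j, (c j z).coeff 0 = 0 := by
    intro z hz j
    have hmem := ker_bcQuotMap_le f D.Q z (LinearMap.mem_ker.mp hz)
    clear hz
    induction hmem using Submodule.span_induction with
    | mem y hy =>
      rcases hy with ⟨y, hy, rfl⟩ | ⟨u, x, rfl⟩
      · rw [hc, one_mul]
        refine hIV0 (coeff_zero_of_mem_IV ?_)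
        rw [hQ, Submodule.mem_sup] at hy
        obtain ⟨l, hl, t, ht, rfl⟩ := hy
        have hl0 : πT l = 0 := by simp [πT, hLl l hl]
        rw [map_add πT, hl0, zero_add]
        have := map_mem_smul_top _ ((LinearMap.proj j : (Fin n → WittVector p S) →ₗ[WittVector p S] WittVector p S) ∘ₗ s ∘ₗ πT)
          (Submodule.smul_mono le_rfl le_top ht)
        simpa [smul_eq_mul] using this
      · rw [hc, mul_coeff_zero, verschiebung_coeff_zero, zero_mul]
    | zero => simp
    | add a b _ _ ha hb =>
      show WittVector.constantCoeff (c j (a + b)) = 0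
      rw [map_add (c j), map_add WittVector.constantCoeff]
      show (c j a).coeff 0 + (c j b).coeff 0 = 0
      rw [ha, hb, add_zero]
    | smul w a _ ha => rw [map_smul, smul_eq_mul, mul_coeff_zero, ha, mul_zero]
  let VR : QR →ₛₗ[σR] BC g P :=
    { toFun := fun z => G z + ∑ j, (c j z).shift 1 • BC.tmul g 1 (D.F (πT (v j)))
      map_add' := fun a b => by
        simp only [Submodule.coe_add, map_add, shift_add_of_coeff_zero (hc0 _ a.2 _) (hc0 _ b.2 _), add_smul,
          Finset.sum_add_distrib]
        abel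
      map_smul' := fun w a => by
        simp only [Submodule.coe_smul, LinearMap.map_smulₛₗ, RingHom.id_apply, smul_eq_mul,
          shift_mul_of_coeff_zero w (hc0 _ a.2 _), mul_smul, Finset.smul_sum, smul_add]
        rfl }
  have hsum : ∀ x, ∑ j, g (WittVector.frobenius (s (πT x) j)) • BC.tmul g 1 (D.F (πT (v j))) = BC.tmul g 1 (D.F (πT x)) := fun x => by
    have hTT : πT (πT x) = πT x := by simp [πT, hLl _ (hπLL x)]
    conv_rhs => rw [← hTT, ← hv (πT x)]
    simp only [map_sum, map_smul, LinearMap.map_smulₛₗ D.F]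
    show _ = BC.ι g P _
    simp only [map_sum, LinearMap.map_smulₛₗ (BC.ι g P), BC.ι_apply]
  have hV2 : ∀ (u : WittVector p R) (x : P) (h : BC.tmul g (verschiebung u) x ∈ QR),
      VR ⟨_, h⟩ = BC.tmul g u (D.F x) := by
    intro u x h
    show G (BC.tmul g (verschiebung u) x) + ∑ j, (c j (BC.tmul g (verschiebung u) x)).shift 1 • _ = _
    have h1 : ∀ j, (c j (BC.tmul g (verschiebung u) x)).shift 1 = u * g (WittVector.frobenius (s (πT x) j)) := fun j => by
      rw [hc, ← verschiebung_mul_frobenius, shift_verschiebung, hcomm]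
    simp only [h1, mul_smul, ← Finset.smul_sum, hsum]
    rw [hG, show σR (verschiebung u) = u * (p : WittVector p R) from frobenius_verschiebung u, mul_smul, ← smul_add,
      BC.tmul_eq_smul_tmul_one g u (D.F x)]
    congr 1
    have hp' : (p : WittVector p R) = g (p : WittVector p S) := (map_natCast g p).symm
    have hm : verschiebung (1 : WittVector p S) • πL x ∈ D.Q := D.Q.smul_mem _ (hLQ (hπLL x))
    have hFl : D.F (πL x) = (p : WittVector p S) • D.Vinv ⟨πL x, hLQ (hπLL x)⟩ := by
      have h := D.Vinv_verschiebung_smul 1 (πL x)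
      rw [one_smul] at h
      rw [← h, show (⟨verschiebung (1 : WittVector p S) • πL x, hm⟩ : D.Q) =
        verschiebung (1 : WittVector p S) • (⟨πL x, hLQ (hπLL x)⟩ : D.Q) from rfl,
        LinearMap.map_smulₛₗ D.Vinv, frobenius_verschiebung, one_mul]
    rw [hp', BC.smul_tmul, mul_one, BC.tmul_apply_eq, ← hFl, ← BC.tmul_add, ← map_add D.F]
    simp [πT]
  have hV1 : ∀ (y : D.Q) (h : BC.tmul g 1 (y : P) ∈ QR), VR ⟨_, h⟩ = BC.tmul g 1 (D.Vinv y) := by
    rintro ⟨y, hy⟩ h
    show G (BC.tmul g 1 y) + ∑ j, (c j (BC.tmul g 1 y)).shift 1 • _ = _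
    simp only [hc, one_mul, hG, map_one, one_smul]
    have hy' := hy
    rw [hQ, Submodule.mem_sup] at hy'
    obtain ⟨l, hl, t, ht, rfl⟩ := hy'
    have htT : t ∈ T := Submodule.smul_le_right ht
    have e1 : πL (l + t) = l := by rw [map_add, hLl l hl, hLt t htT, add_zero]
    have e2 : πT (l + t) = t := by simp [πT, e1]
    rw [show (⟨l + t, hy⟩ : D.Q) = ⟨l, hLQ hl⟩ + ⟨t, hITQ ht⟩ from rfl, map_add D.Vinv, BC.tmul_add,
      show (⟨πL (l + t), hLQ (hπLL _)⟩ : D.Q) = ⟨l, hLQ hl⟩ from Subtype.ext e1, e2]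
    congr 1
    clear h hy e1 e2 htT
    induction ht using Submodule.smul_induction_on' with
    | smul a ha t htT =>
      have hV := exists_verschiebung_of_mem_IV ha
      have h' : verschiebung (a.shift 1) • t ∈ D.Q := hITQ (Submodule.smul_mem_smul (W4c1extbt610.verschiebung_mem_IV p S _) htT)
      rw [show (⟨a • t, hITQ (Submodule.smul_mem_smul ha htT)⟩ : D.Q) = ⟨verschiebung (a.shift 1) • t, h'⟩ from
        Subtype.ext (show a • t = verschiebung (a.shift 1) • t by rw [← hV]), D.Vinv_verschiebung_smul,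
        ← BC.tmul_mul_apply, one_mul, BC.tmul_eq_smul_tmul_one]
      have htt : πT t = t := by simp [πT, hLt t htT]
      have h1 : ∀ j, (g (s (a • t) j)).shift 1 = g (a.shift 1) * g (WittVector.frobenius (s (πT t) j)) := fun j => by
        rw [htt, map_smul, Pi.smul_apply, smul_eq_mul, map_mul]
        conv_lhs => rw [hV]
        show WittVector.shift (WittVector.map f (verschiebung (a.shift 1)) * g (s t j)) 1 = _
        rw [map_verschiebung, ← verschiebung_mul_frobenius, shift_verschiebung, hcomm]
      simp only [h1, mul_smul, ← Finset.smul_sum]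
      rw [hsum, htt]
    | add x hx y hy ihx ihy =>
      rw [show (⟨x + y, hITQ (add_mem hx hy)⟩ : D.Q) = ⟨x, hITQ hx⟩ + ⟨y, hITQ hy⟩ from rfl, map_add D.Vinv,
        BC.tmul_add, ← ihx, ← ihy, ← Finset.sum_add_distrib]
      refine Finset.sum_congr rfl fun j _ => ?_
      have h0 : ∀ {z : P}, z ∈ W4c1extbt610.IV p S • T → (g (s z j)).coeff 0 = 0 := fun {z} hz => by
        refine hIV0 (coeff_zero_of_mem_IV ?_)
        have := map_mem_smul_top _ ((LinearMap.proj j : (Fin n → WittVector p S) →ₗ[WittVector p S] WittVector p S) ∘ₗ s)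
          (Submodule.smul_mono le_rfl le_top hz)
        simpa [smul_eq_mul] using this
      rw [map_add s, Pi.add_apply, map_add g, shift_add_of_coeff_zero (h0 hx) (h0 hy), add_smul]
  -- the normal decomposition
  let bL := BC.map g πL
  let bT := BC.map g πT
  have hb : ∀ z, bL z + bT z = z := fun z => by
    induction z using BC.induction_on with
    | zero => simp
    | tmul w x => rw [BC.map_tmul, BC.map_tmul, ← BC.tmul_add]; simp [πT]
    | add a b ha hb => rw [map_add, map_add, add_add_add_comm, ha, hb]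
  have hbLL : ∀ z, bL (bL z) = bL z := fun z => by
    induction z using BC.induction_on with
    | zero => simp
    | tmul w x => rw [BC.map_tmul, BC.map_tmul, hLl _ (hπLL x)]
    | add a b ha hb => simp only [map_add, ha, hb]
  have hbLT : ∀ z, bL (bT z) = 0 := fun z => by
    induction z using BC.induction_on with
    | zero => simp
    | tmul w x => rw [BC.map_tmul, BC.map_tmul, hLt _ (hπTT x), BC.tmul_zero]
    | add a b ha hb => simp only [map_add, ha, hb, add_zero]
  obtain ⟨hfin, hproj, -⟩ := bc_finite_projective_rank g P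
  have hIVQ : W4c1extbt610.IV p R • (⊤ : Submodule (WittVector p R) (BC g P)) ≤ QR :=
    Submodule.smul_le.mpr fun w hw z _ => by
      rw [LinearMap.mem_ker, LinearMap.map_smulₛₗ, show WittVector.constantCoeff w = 0 from coeff_zero_of_mem_IV hw,
        zero_smul]
  have h1mem : ∀ y ∈ D.Q, BC.tmul g 1 y ∈ QR := fun y hy => by
    rw [LinearMap.mem_ker, bcQuotMap_tmul, Submodule.mkQ_apply, (Submodule.Quotient.mk_eq_zero _).mpr hy,
      BC.tmul_zero]
  refine ⟨{
    Q := QR
    F := FR
    Vinv := VR
    finite := hfin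
    projective := hproj
    IV_smul_le := hIVQ
    exists_normal := ⟨LinearMap.range bL, LinearMap.range bT, IsCompl.of_eq ?_ ?_, ?_⟩
    span_range_Vinv := ?_
    Vinv_verschiebung_smul := ?_ }, rfl, hFR, fun w y h => ?_, hV2⟩
  · refine eq_bot_iff.mpr ?_
    rintro _ ⟨⟨a, rfl⟩, b, hb⟩
    rw [Submodule.mem_bot, ← hbLL, ← hb, hbLT]
  · exact eq_top_iff.mpr fun z _ => Submodule.mem_sup.mpr ⟨_, ⟨z, rfl⟩, _, ⟨z, rfl⟩, hb z⟩
  · refine le_antisymm (fun z hz => ?_) (sup_le ?_ ((Submodule.smul_mono le_rfl le_top).trans hIVQ))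
    · refine Submodule.mem_sup.mpr ⟨bL z, ⟨z, rfl⟩, bT z, ?_, hb z⟩
      have e : bT z = ∑ j, c j z • bT (BC.tmul g 1 (v j)) := by
        clear hz
        induction z using BC.induction_on with
        | zero => simp
        | tmul w x =>
          have hTT : πT (πT x) = πT x := by simp [πT, hLl _ (hπLL x)]
          show BC.map g πT (BC.tmul g w x) = ∑ j, c j (BC.tmul g w x) • BC.map g πT (BC.tmul g 1 (v j))
          simp only [hc, mul_smul, ← Finset.smul_sum, bT, BC.map_tmul]
          rw [BC.tmul_eq_smul_tmul_one]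
          congr 1
          conv_lhs => rw [← hTT, ← hv (πT x)]
          show BC.ι g P _ = _
          simp only [map_sum, map_smul, LinearMap.map_smulₛₗ (BC.ι g P)]
          rfl
        | add a b ha hb => simp only [map_add, add_smul, Finset.sum_add_distrib, ha, hb]
      rw [e]
      refine Submodule.sum_mem _ fun j _ => Submodule.smul_mem_smul ?_ ⟨_, rfl⟩
      rw [show c j z = verschiebung ((c j z).shift 1) by
        conv_lhs => rw [H27Witt.eq_teichmuller_add_verschiebung (c j z), hc0 z hz j, teichmuller_zero, zero_add]]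
      exact W4c1extbt610.verschiebung_mem_IV p R _
    · rintro _ ⟨a, rfl⟩
      induction a using BC.induction_on with
      | zero => simp
      | tmul w x => rw [BC.map_tmul, BC.tmul_eq_smul_tmul_one]; exact QR.smul_mem _ (h1mem _ (hLQ (hπLL x)))
      | add a b ha hb => rw [map_add]; exact add_mem ha hb
  · rw [eq_top_iff]
    rintro z -
    induction z using BC.induction_on with
    | zero => exact zero_mem _
    | tmul w x =>
      rw [BC.tmul_eq_smul_tmul_one]
      refine Submodule.smul_mem _ _ ?_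
      have hx : x ∈ Submodule.span (WittVector p S) (Set.range D.Vinv) := by rw [D.span_range_Vinv]; trivial
      induction hx using Submodule.span_induction with
      | mem y hy =>
        obtain ⟨q, rfl⟩ := hy
        exact Submodule.subset_span ⟨⟨_, h1mem _ q.2⟩, hV1 q _⟩
      | zero => rw [BC.tmul_zero]; exact zero_mem _
      | add a b _ _ ha hb => rw [BC.tmul_add]; exact add_mem ha hb
      | smul a y _ hy =>
        rw [← BC.tmul_mul_apply, one_mul, BC.tmul_eq_smul_tmul_one]
        exact Submodule.smul_mem _ _ hy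
    | add a b ha hb => exact add_mem ha hb
  · intro w z
    induction z using BC.induction_on with
    | zero =>
      rw [show (⟨verschiebung w • (0 : BC g P), _⟩ : QR) = 0 from Subtype.ext (smul_zero _), map_zero, map_zero, smul_zero]
    | tmul a x =>
      have e : verschiebung w • BC.tmul g a x = BC.tmul g (verschiebung (w * σR a)) x := by
        rw [BC.smul_tmul, verschiebung_mul_frobenius]
      have h' : BC.tmul g (verschiebung (w * σR a)) x ∈ QR :=
        e ▸ hIVQ (Submodule.smul_mem_smul (W4c1extbt610.verschiebung_mem_IV p R w) Submodule.mem_top)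
      rw [show (⟨verschiebung w • BC.tmul g a x, _⟩ : QR) = ⟨_, h'⟩ from Subtype.ext e, hV2, hFR, BC.smul_tmul]
    | add a b ha hb =>
      have hm : ∀ z, verschiebung w • z ∈ QR := fun z =>
        hIVQ (Submodule.smul_mem_smul (W4c1extbt610.verschiebung_mem_IV p R w) Submodule.mem_top)
      rw [show (⟨verschiebung w • (a + b), _⟩ : QR) = ⟨_, hm a⟩ + ⟨_, hm b⟩ from Subtype.ext (smul_add _ _ _),
        map_add VR, ha, hb, map_add, smul_add]
  · have e : BC.tmul g w (y : P) = w • BC.tmul g 1 (y : P) := BC.tmul_eq_smul_tmul_one g w _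
    show VR ⟨BC.tmul g w (y : P), h⟩ = BC.tmul g (σR w) (D.Vinv y)
    rw [show (⟨BC.tmul g w (y : P), h⟩ : QR) = w • ⟨_, h1mem _ y.2⟩ from Subtype.ext e,
      LinearMap.map_smulₛₗ VR, hV1, BC.smul_tmul, mul_one]

end Groth.Agent.H27Disp
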