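import Groth.Agent.H27Disp.BaseChange
import Mathlib

/-!
# Descent of homomorphisms of displays along faithfully flat maps
-/

set_option autoImplicit false

namespace Groth.Agent.H27Disp

open WittVector Dieu

universe u v w

section Coordinates

variable {A : Type u} {B : Type w} [CommRing A] [CommRing B] (g : A →+* B)
variable {P : Type v} [AddCommGroup P] [Module A P] {n : ℕ}

/-- Coordinates on the base change of a direct summand of `A^n`. -/
noncomputable def coordBC (i : P →ₗ[A] (Fin n → A)) : BC g P →ₗ[B] (Fin n → B) :=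
  BC.lift g
    { toFun := fun x j => g (i x j)
      map_add' := fun x y => by ext j; simp
      map_smul' := fun a x => by ext j; simp }

theorem coordBC_tmul (i : P →ₗ[A] (Fin n → A)) (b : B) (x : P) (j : Fin n) :
    coordBC g i (BC.tmul g b x) j = b * g (i x j) := by
  rw [coordBC, BC.lift_tmul]
  rfl

theorem sum_coordBC {i : P →ₗ[A] (Fin n → A)} {v : Fin n → P} (hv : ∀ z, z = ∑ j, i z j • v j) (z : BC g P) :
    ∑ j, coordBC g i z j • BC.tmul g 1 (v j) = z := by
  induction z using BC.induction_on with
  | zero => simp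
  | tmul b x =>
    have h : BC.tmul g 1 x = ∑ j, g (i x j) • BC.tmul g 1 (v j) := by
      conv_lhs => rw [hv x]
      rw [← BC.ι_apply, map_sum]
      exact Finset.sum_congr rfl fun j _ => by rw [LinearMap.map_smulₛₗ]; rfl
    conv_rhs => rw [BC.tmul_eq_smul_tmul_one g b x, h, Finset.smul_sum]
    refine Finset.sum_congr rfl fun j _ => ?_
    rw [coordBC_tmul, smul_smul]
  | add a c ha hc =>
    conv_rhs => rw [← ha, ← hc]
    rw [← Finset.sum_add_distrib]
    exact Finset.sum_congr rfl fun j _ => by rw [map_add, Pi.add_apply, add_smul]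

/-- `P → B ⊗ P` is injective for `g` injective and `P` a finite projective module. -/
theorem tmul_one_injective (hg : Function.Injective g) {i : P →ₗ[A] (Fin n → A)} {v : Fin n → P}
    (hv : ∀ z, z = ∑ j, i z j • v j) {x y : P} (h : BC.tmul g 1 x = BC.tmul g 1 y) : x = y := by
  rw [hv x, hv y]
  refine Finset.sum_congr rfl fun j _ => ?_
  have hj := congrFun (congrArg (coordBC g i) h) j
  rw [coordBC_tmul, coordBC_tmul, one_mul, one_mul] at hj
  rw [hg hj]

/-- An element of `B ⊗ P` with descending coordinates comes from `P`. -/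
theorem exists_tmul_eq {C : Type w} [CommRing C] (h₁ h₂ : B →+* C) {gC : A →+* C}
    (hC₁ : h₁.comp g = gC) (hC₂ : h₂.comp g = gC) (hg : ∀ b, h₁ b = h₂ b → ∃ a, g a = b)
    {i : P →ₗ[A] (Fin n → A)} {v : Fin n → P} (hv : ∀ z, z = ∑ j, i z j • v j) (z : BC g P)
    (hz : BC.castHom hC₁ (BC.push g h₁ z) = BC.castHom hC₂ (BC.push g h₂ z)) :
    ∃ x : P, BC.tmul g 1 x = z := by
  have key : ∀ (h : B →+* C) (e : h.comp g = gC) (z : BC g P) (j : Fin n),
      coordBC gC i (BC.castHom e (BC.push g h z)) j = h (coordBC g i z j) := by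
    intro h e z j
    induction z using BC.induction_on with
    | zero => simp
    | tmul b x =>
      rw [BC.push_tmul, BC.castHom_tmul, coordBC_tmul, coordBC_tmul, map_mul]
      congr 1
      exact (RingHom.congr_fun e (i x j)).symm
    | add a c ha hc => simp only [map_add, Pi.add_apply, ha, hc]
  have hj : ∀ j, ∃ a, g a = coordBC g i z j := fun j => hg _ (by
    have := congrFun (congrArg (coordBC gC i) hz) j
    rwa [key, key] at this)
  choose a ha using hj
  refine ⟨∑ j, a j • v j, ?_⟩
  rw [← BC.ι_apply, map_sum]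
  conv_rhs => rw [← sum_coordBC g hv z]
  exact Finset.sum_congr rfl fun j _ => by rw [LinearMap.map_smulₛₗ, ← ha]; rfl

end Coordinates

variable {p : ℕ} [hp : Fact p.Prime] {S R : Type u} [CommRing S] [CommRing R]

theorem witt_mem_range [Algebra S R] [Module.FaithfullyFlat S R] (w : WittVector p R)
    (h : WittVector.map (Algebra.TensorProduct.includeLeftRingHom : R →+* TensorProduct S R R) w =
      WittVector.map ((Algebra.TensorProduct.includeRight : R →ₐ[S] TensorProduct S R R) : R →+* TensorProduct S R R) w) :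
    ∃ a, WittVector.map (algebraMap S R) a = w := by
  have hc : ∀ m, w.coeff m ∈ Set.range (algebraMap S R) := fun m => by
    rw [← (Algebra.IsEffective.of_faithfullyFlat S R).eqLocus_includeLeft_includeRight]
    have := congrArg (fun x => x.coeff m) h
    simpa [WittVector.map_coeff] using this
  choose a ha using hc
  exact ⟨WittVector.mk p a, WittVector.ext fun m => by rw [WittVector.map_coeff, WittVector.coeff_mk, ha]⟩

variable {P : Type v} [AddCommGroup P] [Module (WittVector p S) P]

/-- The submodule `Q` is detected after an injective base change. -/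
theorem mem_Q_of_tmul_mem (f : S →+* R) (hf : Function.Injective f) (D : W4c1extbt610.Display3n p S P)
    (DR : W4c1extbt610.Display3n p R (BC (WittVector.map f : WittVector p S →+* WittVector p R) P))
    (hDR : IsDispBaseChange f D DR) {y : P}
    (hy : BC.tmul (WittVector.map f : WittVector p S →+* WittVector p R) 1 y ∈ DR.Q) : y ∈ D.Q := by
  classical
  haveI := D.finite
  haveI := D.projective
  obtain ⟨n, g, hg⟩ := Module.Finite.exists_fin' (WittVector p S) P
  obtain ⟨i, hi⟩ := Module.projective_lifting_property g LinearMap.id hg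
  obtain ⟨L, T, hLT, hQ⟩ := D.exists_normal
  let c : WittVector p S →+* R := (WittVector.constantCoeff : WittVector p R →+* R).comp
    (WittVector.map f : WittVector p S →+* WittVector p R)
  have hc : ∀ w, c w = f (w.coeff 0) := fun w => WittVector.map_coeff f w 0
  let πT : P →ₗ[WittVector p S] P := T.subtype ∘ₗ Submodule.projectionOnto T L hLT.symm
  let φ0 : P →ₛₗ[c] (Fin n → R) :=
    { toFun := fun x j => c (i (πT x) j)
      map_add' := fun x z => by ext j; simp
      map_smul' := fun a x => by ext j; simp }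
  have hker : D.Q ≤ LinearMap.ker φ0 := by
    rw [hQ]
    refine sup_le (fun l hl => ?_) (Submodule.smul_le.2 fun w hw t _ => ?_)
    · rw [LinearMap.mem_ker]
      ext j
      show c (i ((Submodule.projectionOnto T L hLT.symm l : T) : P) j) = 0
      rw [(Submodule.projectionOnto_apply_eq_zero_iff hLT.symm).2 hl]
      simp
    · rw [LinearMap.mem_ker, LinearMap.map_smulₛₗ, hc, coeff_zero_of_mem_IV hw, map_zero, zero_smul]
  let φ : P ⧸ D.Q →ₛₗ[c] (Fin n → R) := Submodule.liftQ D.Q φ0 hker
  rw [hDR.Q_eq, LinearMap.mem_ker, bcQuotMap_tmul, map_one] at hy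
  have h0 : BC.lift c φ (BC.tmul c 1 (D.Q.mkQ y)) = 0 := (congrArg (BC.lift c φ) hy).trans (map_zero _)
  rw [BC.lift_tmul, one_smul] at h0
  have hIV : ∀ j, i (πT y) j ∈ W4c1extbt610.IV p S := fun j => by
    have h1 : c (i (πT y) j) = 0 := congrFun h0 j
    rw [hc] at h1
    have h2 : (i (πT y) j).coeff 0 = 0 := hf (by rw [h1, map_zero])
    rw [show i (πT y) j = verschiebung ((i (πT y) j).shift 1) by
      conv_lhs => rw [H27Witt.eq_teichmuller_add_verschiebung (i (πT y) j), h2, teichmuller_zero, zero_add]]
    exact W4c1extbt610.verschiebung_mem_IV p S _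
  let πT' := Submodule.projectionOnto T L hLT.symm
  have ht : πT y ∈ W4c1extbt610.IV p S • T := by
    have hgi : g (i (πT y)) = πT y := LinearMap.congr_fun hi _
    have hpp : πT (πT y) = πT y := by
      show ((πT' (πT' y : P) : T) : P) = (πT' y : P)
      rw [Submodule.projectionOnto_apply_left]
    rw [← hpp]
    conv in (πT (πT y)) => rw [← hgi]
    rw [pi_eq_sum_univ (i (πT y)), map_sum, map_sum]
    refine Submodule.sum_mem _ fun j _ => ?_
    rw [map_smul, map_smul]
    exact Submodule.smul_mem_smul (hIV j) (πT' _).2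
  rw [hQ, show y = (y - πT y) + πT y by abel]
  refine Submodule.add_mem_sup ?_ ht
  rw [← Submodule.projectionOnto_apply_eq_zero_iff hLT.symm, map_sub, sub_eq_zero]
  exact (Submodule.projectionOnto_apply_left hLT.symm _).symm

/-- Homomorphisms of displays descend. -/
theorem existsUnique_isHom [Algebra S R] [Module.FaithfullyFlat S R]
    {P' : Type v} [AddCommGroup P'] [Module (WittVector p S) P']
    (D : W4c1extbt610.Display3n p S P) (D' : W4c1extbt610.Display3n p S P')
    (DR : W4c1extbt610.Display3n p R (BC (WittVector.map (algebraMap S R) : WittVector p S →+* WittVector p R) P))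
    (hDR : IsDispBaseChange (algebraMap S R) D DR)
    (DR' : W4c1extbt610.Display3n p R (BC (WittVector.map (algebraMap S R) : WittVector p S →+* WittVector p R) P'))
    (hDR' : IsDispBaseChange (algebraMap S R) D' DR')
    (χ : BC (WittVector.map (algebraMap S R) : WittVector p S →+* WittVector p R) P →ₗ[WittVector p R]
      BC (WittVector.map (algebraMap S R) : WittVector p S →+* WittVector p R) P')
    (hχ : W4c1extbt610.IsHom DR DR' χ)
    (hrange : ∀ x : P, ∃ y : P',
      BC.tmul (WittVector.map (algebraMap S R) : WittVector p S →+* WittVector p R) 1 y =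
        χ (BC.tmul (WittVector.map (algebraMap S R) : WittVector p S →+* WittVector p R) 1 x)) :
    ∃! ψ : P →ₗ[WittVector p S] P', W4c1extbt610.IsHom D D' ψ ∧
      BC.map (WittVector.map (algebraMap S R) : WittVector p S →+* WittVector p R) ψ = χ := by
  classical
  have hf : Function.Injective (algebraMap S R) := FaithfulSMul.algebraMap_injective S R
  have hinjW : Function.Injective (WittVector.map (algebraMap S R) : WittVector p S →+* WittVector p R) := WittVector.map_injective (algebraMap S R) hf
  haveI := D'.finite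
  haveI := D'.projective
  obtain ⟨n, q, hq⟩ := Module.Finite.exists_fin' (WittVector p S) P'
  obtain ⟨i, hi⟩ := Module.projective_lifting_property q LinearMap.id hq
  have hv : ∀ z, z = ∑ j, i z j • q (fun k => if j = k then 1 else 0) := fun z => by
    conv_lhs => rw [← LinearMap.id_apply (R := WittVector p S) z, ← hi, LinearMap.comp_apply,
      pi_eq_sum_univ (i z), map_sum]
    simp only [map_smul]
  have inj : ∀ {x y : P'}, BC.tmul (WittVector.map (algebraMap S R) : WittVector p S →+* WittVector p R) 1 x = BC.tmul (WittVector.map (algebraMap S R) : WittVector p S →+* WittVector p R) 1 y → x = y := fun h => tmul_one_injective (WittVector.map (algebraMap S R) : WittVector p S →+* WittVector p R) hinjW hv h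
  choose ψ0 hψ0 using hrange
  let ψ : P →ₗ[WittVector p S] P' :=
    { toFun := ψ0
      map_add' := fun x y => inj (by rw [BC.tmul_add, hψ0, hψ0, hψ0, BC.tmul_add, map_add])
      map_smul' := fun a x => inj (by
        rw [RingHom.id_apply, hψ0, ← BC.tmul_apply_eq, ← BC.tmul_apply_eq, BC.tmul_eq_smul_tmul_one, map_smul,
          BC.tmul_eq_smul_tmul_one (WittVector.map (algebraMap S R) : WittVector p S →+* WittVector p R) ((WittVector.map (algebraMap S R) : WittVector p S →+* WittVector p R) a) (ψ0 x), hψ0]) }
  have hψ : ∀ x, BC.tmul (WittVector.map (algebraMap S R) : WittVector p S →+* WittVector p R) 1 (ψ x) = χ (BC.tmul (WittVector.map (algebraMap S R) : WittVector p S →+* WittVector p R) 1 x) := hψ0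
  have hmem : ∀ y : D.Q, BC.tmul (WittVector.map (algebraMap S R) : WittVector p S →+* WittVector p R) 1 (y : P) ∈ DR.Q := fun y => by
    rw [hDR.Q_eq, LinearMap.mem_ker, bcQuotMap_tmul, Submodule.mkQ_apply,
      (Submodule.Quotient.mk_eq_zero _).2 y.2, BC.tmul_zero]
  have hQ : ∀ x, x ∈ D.Q → ψ x ∈ D'.Q := fun x hx =>
    mem_Q_of_tmul_mem (algebraMap S R) hf D' DR' hDR' (by rw [hψ]; exact hχ.mapsTo _ (hmem ⟨x, hx⟩))
  refine ⟨ψ, ⟨⟨hQ, fun x => inj ?_, fun y => inj ?_⟩, BC.ext (WittVector.map (algebraMap S R) : WittVector p S →+* WittVector p R) fun x => by rw [BC.map_tmul, hψ]⟩, ?_⟩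
  · rw [hψ, show BC.tmul (WittVector.map (algebraMap S R) : WittVector p S →+* WittVector p R) 1 (D.F x) = DR.F (BC.tmul (WittVector.map (algebraMap S R) : WittVector p S →+* WittVector p R) 1 x) by rw [hDR.F_tmul, map_one],
      hχ.comm_F, ← hψ, hDR'.F_tmul, map_one]
  · rw [hψ, show BC.tmul (WittVector.map (algebraMap S R) : WittVector p S →+* WittVector p R) 1 (D.Vinv y) = DR.Vinv ⟨_, hmem y⟩ by rw [hDR.Vinv_tmul 1 y (hmem y), map_one],
      hχ.comm_Vinv]
    have hy : BC.tmul (WittVector.map (algebraMap S R) : WittVector p S →+* WittVector p R) 1 (ψ y) ∈ DR'.Q := by rw [hψ]; exact hχ.mapsTo _ (hmem y)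
    rw [show (⟨χ (BC.tmul (WittVector.map (algebraMap S R) : WittVector p S →+* WittVector p R) 1 (y : P)), hχ.mapsTo _ (hmem y)⟩ : DR'.Q) = ⟨_, hy⟩ from Subtype.ext (hψ y).symm,
      hDR'.Vinv_tmul 1 ⟨ψ y, hQ y y.2⟩ hy, map_one]
  · rintro ψ' ⟨-, hψ'⟩
    refine LinearMap.ext fun x => inj ?_
    rw [hψ, ← hψ', BC.map_tmul]

end Groth.Agent.H27Disp
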