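import Groth.Agent.H27Disp.BaseChangeExists
import Groth.Agent.H27DR.Quotient
import Groth.Prelude.Def_W4c1extbt610Disp

/-! # 3n-displays from normal data; exterior powers of a 3n-display with tangent module of rank one -/

set_option autoImplicit false

namespace Groth.Agent.H27Disp

open WittVector

universe u v

variable {p : ℕ} [hp : Fact p.Prime] {R : Type u} [CommRing R]

theorem exists_display_of_normal {M : Type v} [AddCommGroup M] [Module (WittVector p R) M]
    [Module.Finite (WittVector p R) M] [Module.Projective (WittVector p R) M]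
    (Λ : M →ₗ[WittVector p R] M) (hΛ : ∀ x, Λ (Λ x) = Λ x)
    (G : M →ₛₗ[(WittVector.frobenius : WittVector p R →+* WittVector p R)] M)
    (hG : Submodule.span (WittVector p R) (Set.range G) = ⊤) :
    ∃ D : W4c1extbt610.Display3n p R M,
      D.Q = LinearMap.range Λ ⊔ W4c1extbt610.IV p R • LinearMap.ker Λ ∧
      (∀ x, Λ x = x → ∀ h : x ∈ D.Q, D.Vinv ⟨x, h⟩ = G x) ∧
      (∀ (a : WittVector p R) (x : M), Λ x = 0 → ∀ h : verschiebung a • x ∈ D.Q,
        D.Vinv ⟨_, h⟩ = a • G x) := by
  classical
  obtain ⟨n, g, hg⟩ := Module.Finite.exists_fin' (WittVector p R) M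
  obtain ⟨s, hs⟩ := Module.projective_lifting_property g LinearMap.id hg
  let v : Fin n → M := fun j => g (Pi.single j 1)
  have hv : ∀ x, ∑ j, s x j • v j = x := fun x => by
    simp only [v, ← map_smul, ← map_sum]
    rw [← pi_eq_sum_univ' (s x)]
    exact LinearMap.congr_fun hs x
  set Q : Submodule (WittVector p R) M := LinearMap.range Λ ⊔ W4c1extbt610.IV p R • LinearMap.ker Λ with hQ
  let c : Fin n → M →ₗ[WittVector p R] WittVector p R := fun j =>
    (LinearMap.proj j : (Fin n → WittVector p R) →ₗ[WittVector p R] WittVector p R) ∘ₗ s ∘ₗ (LinearMap.id - Λ)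
  have hc0 : ∀ z ∈ Q, ∀ j, (c j z).coeff 0 = 0 := fun z hz j => by
    refine coeff_zero_of_mem_IV ?_
    rw [hQ, Submodule.mem_sup] at hz
    obtain ⟨l, ⟨l', rfl⟩, t, ht, rfl⟩ := hz
    have h0 : c j (Λ l') = 0 := by simp [c, hΛ]
    rw [map_add, h0, zero_add]
    have := map_mem_smul_top _ (c j) (Submodule.smul_mono le_rfl le_top ht)
    simpa [smul_eq_mul] using this
  let VR : Q →ₛₗ[(WittVector.frobenius : WittVector p R →+* WittVector p R)] M :=
    { toFun := fun z => G (Λ z) + ∑ j, (c j z).shift 1 • G (v j)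
      map_add' := fun a b => by
        simp only [Submodule.coe_add, map_add, shift_add_of_coeff_zero (hc0 _ a.2 _) (hc0 _ b.2 _), add_smul,
          Finset.sum_add_distrib]
        abel
      map_smul' := fun w a => by
        simp only [Submodule.coe_smul, map_smul, LinearMap.map_smulₛₗ G, smul_eq_mul,
          shift_mul_of_coeff_zero w (hc0 _ a.2 _), mul_smul, Finset.smul_sum, smul_add] }
  have hIVQ : W4c1extbt610.IV p R • (⊤ : Submodule (WittVector p R) M) ≤ Q := Submodule.smul_le.mpr fun w hw z _ => by
    rw [show w • z = Λ (w • z) + w • (z - Λ z) by rw [map_smul, ← smul_add, add_sub_cancel]]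
    exact Submodule.add_mem_sup ⟨_, rfl⟩ (Submodule.smul_mem_smul hw (by simp [hΛ]))
  have hVV : ∀ (w : WittVector p R) (x : M) (h : verschiebung w • x ∈ Q),
      VR ⟨_, h⟩ = w • G ((p : WittVector p R) • Λ x + (x - Λ x)) := fun w x h => by
    show G (Λ (verschiebung w • x)) + ∑ j, (c j (verschiebung w • x)).shift 1 • G (v j) = _
    have h1 : ∀ j, (c j (verschiebung w • x)).shift 1 = w * WittVector.frobenius (s (x - Λ x) j) := fun j => by
      rw [map_smul, smul_eq_mul, ← verschiebung_mul_frobenius, shift_verschiebung]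
      rfl
    simp only [h1, mul_smul, ← Finset.smul_sum]
    rw [map_smul, LinearMap.map_smulₛₗ G, frobenius_verschiebung, mul_smul, ← smul_add]
    congr 1
    conv_rhs => rw [map_add G, LinearMap.map_smulₛₗ G, map_natCast, ← hv (x - Λ x)]
    simp only [map_sum, LinearMap.map_smulₛₗ G]
  have hV1 : ∀ x, Λ x = x → ∀ h : x ∈ Q, VR ⟨x, h⟩ = G x := fun x hx h => by
    show G (Λ x) + ∑ j, (c j x).shift 1 • G (v j) = G x
    have h0 : ∀ j, (c j x).shift 1 = 0 := fun j => by
      ext k
      simp [c, hx, shift_coeff]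
    simp [hx, h0]
  have hV2 : ∀ (a : WittVector p R) (x : M), Λ x = 0 → ∀ h : verschiebung a • x ∈ Q,
      VR ⟨_, h⟩ = a • G x := fun a x hx h => by
    rw [hVV, hx, smul_zero, zero_add, sub_zero]
  refine ⟨{
    Q := Q
    F := G.comp ((p : WittVector p R) • Λ + (LinearMap.id - Λ))
    Vinv := VR
    finite := inferInstance
    projective := inferInstance
    IV_smul_le := hIVQ
    exists_normal := ⟨LinearMap.range Λ, LinearMap.ker Λ, IsCompl.of_eq ?_ ?_, rfl⟩
    span_range_Vinv := ?_
    Vinv_verschiebung_smul := fun w x => hVV w x _ }, rfl, hV1, hV2⟩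
  · refine eq_bot_iff.mpr ?_
    rintro _ ⟨⟨y, rfl⟩, h⟩
    rw [Submodule.mem_bot, ← hΛ]
    exact LinearMap.mem_ker.mp h
  · exact eq_top_iff.mpr fun x _ => Submodule.mem_sup.mpr ⟨Λ x, ⟨x, rfl⟩, x - Λ x, by simp [hΛ], add_sub_cancel _ _⟩
  · rw [eq_top_iff, ← hG, Submodule.span_le]
    rintro _ ⟨x, rfl⟩
    rw [show G x = G (Λ x) + G (x - Λ x) by rw [← map_add, add_sub_cancel]]
    refine add_mem (Submodule.subset_span ⟨⟨Λ x, Submodule.mem_sup_left ⟨x, rfl⟩⟩, hV1 _ (hΛ x) _⟩)
      (Submodule.subset_span ⟨⟨verschiebung 1 • (x - Λ x), hIVQ (Submodule.smul_mem_smul (W4c1extbt610.verschiebung_mem_IV p R 1) Submodule.mem_top)⟩, ?_⟩)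
    rw [hV2 1 (x - Λ x) (by rw [map_sub, hΛ, sub_self]), one_smul]

theorem exists_semilinear_extPow {A B : Type u} [CommRing A] [CommRing B] {σ : A →+* B} {P : Type v}
    [AddCommGroup P] [Module A P] {P' : Type v} [AddCommGroup P'] [Module B P'] (ν : P →ₛₗ[σ] P') (r : ℕ) :
    ∃ G : (⋀[A]^r P) →ₛₗ[σ] (⋀[B]^r P'),
      ∀ m : Fin r → P, G (exteriorPower.ιMulti A r m) = exteriorPower.ιMulti B r (fun i => ν (m i)) := by
  classical
  letI : Module A (⋀[B]^r P') := Module.compHom _ σ
  let φ : P [⋀^Fin r]→ₗ[A] (⋀[B]^r P') :=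
    { toFun := fun m => exteriorPower.ιMulti B r (fun i => ν (m i))
      map_update_add' := fun m i x y => by
        rename_i inst
        simp only [show ∀ z, (fun j => ν (Function.update m i z j)) = Function.update (fun j => ν (m j)) i (ν z) from
          fun z => funext fun j => Function.apply_update (fun _ => ν) m i z j, map_add]
        exact AlternatingMap.map_update_add _ _ _ _ _
      map_update_smul' := fun m i c x => by
        rename_i inst
        simp only [show ∀ z, (fun j => ν (Function.update m i z j)) = Function.update (fun j => ν (m j)) i (ν z) from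
          fun z => funext fun j => Function.apply_update (fun _ => ν) m i z j, LinearMap.map_smulₛₗ ν]
        exact AlternatingMap.map_update_smul _ _ _ _ _
      map_eq_zero_of_eq' := fun m i j h hij => AlternatingMap.map_eq_zero_of_eq _ _ (by simp [h]) hij }
  let L := exteriorPower.alternatingMapLinearEquiv φ
  exact ⟨{ toFun := fun z => L z, map_add' := fun a b => L.map_add a b,
           map_smul' := fun c a => L.map_smul c a },
    fun m => exteriorPower.alternatingMapLinearEquiv_apply_ιMulti φ m⟩

theorem projective_extPow {A : Type u} [CommRing A] {P : Type v} [AddCommGroup P] [Module A P]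
    [Module.Finite A P] [Module.Projective A P] (r : ℕ) : Module.Projective A (⋀[A]^r P) := by
  obtain ⟨n, g, hg⟩ := Module.Finite.exists_fin' A P
  obtain ⟨s, hs⟩ := Module.projective_lifting_property g LinearMap.id hg
  refine Module.Projective.of_split (exteriorPower.map r s) (exteriorPower.map r g) ?_
  rw [← exteriorPower.map_comp, hs, exteriorPower.map_id]

theorem isExtPow_unique {P : Type v} [AddCommGroup P] [Module (WittVector p R) P]
    (D : W4c1extbt610.Display3n p R P) (r : ℕ)
    {E E' : W4c1extbt610.Display3n p R (⋀[WittVector p R]^r P)}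
    (h : W4c1extbt610.IsExtPow D r E) (h' : W4c1extbt610.IsExtPow D r E') : E' = E := by
  obtain ⟨Q, F, Vi, a1, a2, a3, a4, a5, a6⟩ := E
  obtain ⟨Q', F', Vi', b1, b2, b3, b4, b5, b6⟩ := E'
  obtain ⟨hQ, hV⟩ := h
  obtain ⟨hQ', hV'⟩ := h'
  simp only at hQ hV hQ' hV'
  subst hQ hQ'
  have eV : Vi' = Vi := by
    refine LinearMap.ext fun q => ?_
    obtain ⟨z, hz⟩ := q
    have hz' := hz
    induction hz' using Submodule.span_induction with
    | mem y hy => obtain ⟨q, rfl⟩ := hy; exact (hV' q hz).trans (hV q hz).symm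
    | zero => exact (map_zero Vi').trans (map_zero Vi).symm
    | add a b ha hb iha ihb =>
      exact (congrArg Vi' (Subtype.ext rfl : (⟨a + b, hz⟩ : Submodule.span _ _) = ⟨a, ha⟩ + ⟨b, hb⟩)).trans
        ((map_add Vi' _ _).trans ((congrArg₂ (· + ·) (iha ha) (ihb hb)).trans (map_add Vi _ _).symm))
    | smul c a ha iha =>
      exact (LinearMap.map_smulₛₗ Vi' c ⟨a, ha⟩).trans ((congrArg _ (iha ha)).trans (LinearMap.map_smulₛₗ Vi c ⟨a, ha⟩).symm)
  have eF : F' = F := by
    refine LinearMap.ext fun x => ?_
    have h1 := (a6 1 x).trans (one_smul _ _)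
    have h2 := (b6 1 x).trans (one_smul _ _)
    rw [← h1, ← h2, eV]
  subst eV eF
  rfl

theorem exists_isExtPow {P : Type v} [AddCommGroup P] [Module (WittVector p R) P]
    (D : W4c1extbt610.Display3n p R P) (L T : Submodule (WittVector p R) P) (hLT : IsCompl L T)
    (hQ : D.Q = L ⊔ W4c1extbt610.IV p R • T) (eT : T ≃ₗ[WittVector p R] WittVector p R) (r : ℕ) :
    ∃ E : W4c1extbt610.Display3n p R (⋀[WittVector p R]^r P), W4c1extbt610.IsExtPow D r E ∧
      E.Q = LinearMap.range (exteriorPower.map r (L.subtype ∘ₗ L.projectionOnto T hLT)) ⊔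
        W4c1extbt610.IV p R • LinearMap.ker (exteriorPower.map r (L.subtype ∘ₗ L.projectionOnto T hLT)) := by
  classical
  haveI := D.finite
  haveI := D.projective
  have hLQ : L ≤ D.Q := hQ ▸ le_sup_left
  have hITQ : W4c1extbt610.IV p R • T ≤ D.Q := hQ ▸ le_sup_right
  set πL : P →ₗ[WittVector p R] P := L.subtype ∘ₗ L.projectionOnto T hLT with hπL
  have hLl : ∀ l ∈ L, πL l = l := fun l hl =>
    congrArg Subtype.val (Submodule.projectionOnto_apply_left hLT ⟨l, hl⟩)
  have hLt : ∀ t ∈ T, πL t = 0 := fun t ht =>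
    congrArg Subtype.val (Submodule.projectionOnto_apply_right hLT ⟨t, ht⟩)
  have hπLL : ∀ x, πL x ∈ L := fun x => (L.projectionOnto T hLT x).2
  let t₀ : P := (eT.symm 1 : T)
  have ht₀ : t₀ ∈ T := (eT.symm 1).2
  have htT : ∀ t ∈ T, ∃ c : WittVector p R, t = c • t₀ := fun t ht => ⟨eT ⟨t, ht⟩, by
    show t = (eT ⟨t, ht⟩ • eT.symm 1 : T)
    rw [← map_smul, smul_eq_mul, mul_one, eT.symm_apply_apply]⟩
  let φV : P →ₛₗ[(WittVector.frobenius : WittVector p R →+* WittVector p R)] P :=
    D.Vinv.comp (Submodule.inclusion hLQ ∘ₗ L.projectionOnto T hLT) + D.F.comp (LinearMap.id - πL)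
  have hν1 : ∀ (l : P) (_ : l ∈ L) (h : l ∈ D.Q), φV l = D.Vinv ⟨l, h⟩ := fun l hl h => by
    have : L.projectionOnto T hLT l = ⟨l, hl⟩ := Submodule.projectionOnto_apply_left hLT ⟨l, hl⟩
    simp [φV, this, hLl l hl]
    rfl
  have hν2 : ∀ t ∈ T, φV t = D.F t := fun t ht => by
    have : L.projectionOnto T hLT t = 0 := Submodule.projectionOnto_apply_right hLT ⟨t, ht⟩
    simp [φV, this, hLt t ht]
  obtain ⟨G, hG⟩ := exists_semilinear_extPow φV r
  set Λ := exteriorPower.map r πL with hΛdef
  have hΛ : ∀ x, Λ (Λ x) = Λ x := fun x => by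
    show (Λ ∘ₗ Λ) x = Λ x
    rw [hΛdef, ← exteriorPower.map_comp]
    congr 2
    exact LinearMap.ext fun y => hLl _ (hπLL y)
  -- the generators of `Q`
  let gens : Set P := (L : Set P) ∪ {x | ∃ a : WittVector p R, x = verschiebung a • t₀}
  have hgensQ : ∀ x ∈ gens, x ∈ D.Q := by
    rintro x (hx | ⟨a, rfl⟩)
    · exact hLQ hx
    · exact hITQ (Submodule.smul_mem_smul (W4c1extbt610.verschiebung_mem_IV p R a) ht₀)
  have hdec : ∀ q ∈ D.Q, ∃ l ∈ L, ∃ a : WittVector p R, q = l + verschiebung a • t₀ := by
    intro q hq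
    rw [hQ, Submodule.mem_sup] at hq
    obtain ⟨l, hl, s, hs, rfl⟩ := hq
    suffices ∃ a : WittVector p R, s = verschiebung a • t₀ by
      obtain ⟨a, rfl⟩ := this
      exact ⟨l, hl, a, rfl⟩
    induction hs using Submodule.smul_induction_on' with
    | smul b hb t ht =>
      obtain ⟨c, rfl⟩ := htT t ht
      exact ⟨b.shift 1 * WittVector.frobenius c, by
        rw [verschiebung_mul_frobenius, ← exists_verschiebung_of_mem_IV hb, mul_smul]⟩
    | add x _ y _ hx hy =>
      obtain ⟨a, rfl⟩ := hx
      obtain ⟨b, rfl⟩ := hy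
      exact ⟨a + b, by rw [map_add, add_smul]⟩
  have hspanν : Submodule.span (WittVector p R) (Set.range φV) = ⊤ := by
    rw [eq_top_iff, ← D.span_range_Vinv, Submodule.span_le]
    rintro _ ⟨⟨q, hq⟩, rfl⟩
    obtain ⟨l, hl, a, rfl⟩ := hdec q hq
    have h2 : verschiebung a • t₀ ∈ D.Q := hITQ (Submodule.smul_mem_smul (W4c1extbt610.verschiebung_mem_IV p R a) ht₀)
    rw [show (⟨l + verschiebung a • t₀, hq⟩ : D.Q) = ⟨l, hLQ hl⟩ + ⟨_, h2⟩ from rfl, map_add D.Vinv,
      D.Vinv_verschiebung_smul, ← hν1 l hl, ← hν2 t₀ ht₀]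
    exact add_mem (Submodule.subset_span ⟨l, rfl⟩) (Submodule.smul_mem _ _ (Submodule.subset_span ⟨t₀, rfl⟩))
  have hGspan : Submodule.span (WittVector p R) (Set.range G) = ⊤ := by
    rw [eq_top_iff, ← exteriorPower.ιMulti_span_of_span (WittVector p R) r P hspanν, Submodule.span_le]
    rintro _ ⟨a, ha, rfl⟩
    choose b hb using fun i => ha ⟨i, rfl⟩
    refine Submodule.subset_span ⟨exteriorPower.ιMulti (WittVector p R) r b, ?_⟩
    rw [hG]
    congr 1
    exact funext hb
  haveI := projective_extPow (A := WittVector p R) (P := P) r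
  obtain ⟨E, hEQ, hE1, hE2⟩ := exists_display_of_normal Λ hΛ G hGspan
  let ι := exteriorPower.ιMulti (WittVector p R) r (M := P)
  -- behaviour on tuples of generators
  have key : ∀ q : Fin r → P, (∀ i, q i ∈ gens) → ∀ hD : ∀ i, q i ∈ D.Q,
      ∃ h : ι q ∈ E.Q, E.Vinv ⟨ι q, h⟩ = ι (fun i => D.Vinv ⟨q i, hD i⟩) := by
    intro q hq hD
    by_cases hall : ∀ i, q i ∈ L
    · have h1 : Λ (ι q) = ι q := by
        rw [hΛdef, exteriorPower.map_apply_ιMulti]
        exact congrArg ι (funext fun i => hLl _ (hall i))
      have hmem : ι q ∈ E.Q := by rw [hEQ]; exact Submodule.mem_sup_left ⟨_, h1⟩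
      refine ⟨hmem, ?_⟩
      rw [hE1 _ h1, hG]
      exact congrArg ι (funext fun i => hν1 _ (hall i) _)
    · push Not at hall
      obtain ⟨i, hi⟩ := hall
      obtain ⟨a, ha⟩ := (hq i).resolve_left hi
      have hx : ι q = verschiebung a • ι (Function.update q i t₀) := by
        rw [← AlternatingMap.map_update_smul, ← ha, Function.update_eq_self]
      have h0 : Λ (ι (Function.update q i t₀)) = 0 := by
        rw [hΛdef, exteriorPower.map_apply_ιMulti]
        exact AlternatingMap.map_coord_zero _ i (by simp [hLt t₀ ht₀])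
      have hmem : ι q ∈ E.Q := by
        rw [hEQ, hx]
        exact Submodule.mem_sup_right
          (Submodule.smul_mem_smul (W4c1extbt610.verschiebung_mem_IV p R a) (LinearMap.mem_ker.mpr h0))
      refine ⟨hmem, ?_⟩
      have h' : verschiebung a • ι (Function.update q i t₀) ∈ E.Q := hx ▸ hmem
      rw [show (⟨ι q, hmem⟩ : E.Q) = ⟨_, h'⟩ from Subtype.ext hx, hE2 a _ h0, hG]
      have hqi : D.Vinv ⟨q i, hD i⟩ = a • D.F t₀ := by
        have h2 : verschiebung a • t₀ ∈ D.Q := ha ▸ hD i
        rw [show (⟨q i, hD i⟩ : D.Q) = ⟨_, h2⟩ from Subtype.ext ha, D.Vinv_verschiebung_smul]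
      have hup : (fun k => φV (Function.update q i t₀ k)) = Function.update (fun k => φV (q k)) i (D.F t₀) := by
        funext k
        by_cases hk : k = i
        · subst hk; simp [hν2 t₀ ht₀]
        · simp [hk]
      rw [hup]
      show a • ι (Function.update (fun k => φV (q k)) i (D.F t₀)) = _
      rw [← AlternatingMap.map_update_smul, ← hqi]
      by_cases hother : ∀ k, k ≠ i → q k ∈ L
      · refine congrArg ι (funext fun k => ?_)
        by_cases hk : k = i
        · subst hk; simp
        · rw [Function.update_of_ne hk]; exact hν1 _ (hother k hk) _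
      · push Not at hother
        obtain ⟨k, hki, hk⟩ := hother
        obtain ⟨b, hb⟩ := (hq k).resolve_left hk
        have h2 : verschiebung b • t₀ ∈ D.Q := hb ▸ hD k
        have hVk : D.Vinv ⟨q k, hD k⟩ = b • D.F t₀ := by
          rw [show (⟨q k, hD k⟩ : D.Q) = ⟨_, h2⟩ from Subtype.ext hb, D.Vinv_verschiebung_smul]
        have hνk : φV (q k) = WittVector.frobenius (verschiebung b) • D.F t₀ := by
          rw [hb, LinearMap.map_smulₛₗ φV, hν2 t₀ ht₀]
        have hzero : ∀ (m : Fin r → P) (c d : WittVector p R), m i = c • D.F t₀ → m k = d • D.F t₀ → ι m = 0 := by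
          intro m c d hc hd
          rw [← Function.update_eq_self i m, hc, AlternatingMap.map_update_smul,
            ← Function.update_eq_self k (Function.update m i (D.F t₀)), Function.update_of_ne hki, hd,
            AlternatingMap.map_update_smul,
            AlternatingMap.map_eq_zero_of_eq _ _ (i := i) (j := k) (by simp [Ne.symm hki]) (Ne.symm hki),
            smul_zero, smul_zero]
        rw [hzero _ a (WittVector.frobenius (verschiebung b)) (by simp [hqi]) (by simp [hki, hνk]),
          hzero _ a b hqi hVk]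
  -- multilinear extension to all of `Q`
  have ext_all : ∀ q : Fin r → D.Q, ∃ h : ι (fun i => (q i : P)) ∈ E.Q,
      E.Vinv ⟨_, h⟩ = ι (fun i => D.Vinv (q i)) := by
    suffices ∀ (s : Finset (Fin r)) (q : Fin r → D.Q), (∀ i, i ∉ s → (q i : P) ∈ gens) →
        ∃ h : ι (fun i => (q i : P)) ∈ E.Q, E.Vinv ⟨_, h⟩ = ι (fun i => D.Vinv (q i)) from
      fun q => this Finset.univ q (fun i hi => absurd (Finset.mem_univ i) hi)
    intro s
    induction s using Finset.induction with
    | empty => intro q hq; exact key (fun i => (q i : P)) (fun i => hq i (Finset.notMem_empty i)) fun i => (q i).2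
    | insert i s his ih =>
      intro q hq
      obtain ⟨l, hl, a, hla⟩ := hdec _ (q i).2
      let q1 : D.Q := ⟨l, hLQ hl⟩
      let q2 : D.Q := ⟨verschiebung a • t₀, hgensQ _ (Or.inr ⟨a, rfl⟩)⟩
      have hq12 : q i = q1 + q2 := Subtype.ext hla
      have hg : ∀ y : D.Q, (y : P) ∈ gens → ∀ j, j ∉ s → (Function.update q i y j : P) ∈ gens := fun y hy j hj => by
        by_cases h : j = i
        · subst h; simpa using hy
        · rw [Function.update_of_ne h]; exact hq j (by simp [h, hj])
      obtain ⟨h1, e1⟩ := ih _ (hg q1 (Or.inl hl))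
      obtain ⟨h2, e2⟩ := ih _ (hg q2 (Or.inr ⟨a, rfl⟩))
      have hc : ∀ y : D.Q, (fun j => (Function.update q i y j : P)) = Function.update (fun j => (q j : P)) i (y : P) :=
        fun y => funext fun j => Function.apply_update (fun _ (z : D.Q) => (z : P)) q i y j
      have hcV : ∀ y : D.Q, (fun j => D.Vinv (Function.update q i y j)) = Function.update (fun j => D.Vinv (q j)) i (D.Vinv y) :=
        fun y => funext fun j => Function.apply_update (fun _ (z : D.Q) => D.Vinv z) q i y j
      have hsum : ι (fun j => (q j : P)) =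
          ι (fun j => (Function.update q i q1 j : P)) + ι (fun j => (Function.update q i q2 j : P)) := by
        rw [hc, hc, ← AlternatingMap.map_update_add]
        refine congrArg ι (funext fun j => ?_)
        by_cases h : j = i
        · subst h; rw [Function.update_self, hq12]; rfl
        · rw [Function.update_of_ne h]
      have hmem : ι (fun j => (q j : P)) ∈ E.Q := hsum ▸ add_mem h1 h2
      refine ⟨hmem, ?_⟩
      rw [show (⟨_, hmem⟩ : E.Q) = ⟨_, h1⟩ + ⟨_, h2⟩ from Subtype.ext hsum, map_add E.Vinv, e1, e2, hcV, hcV,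
        ← AlternatingMap.map_update_add]
      refine congrArg ι (funext fun j => ?_)
      by_cases h : j = i
      · subst h; rw [Function.update_self, hq12, map_add D.Vinv]
      · rw [Function.update_of_ne h]
  refine ⟨E, ⟨le_antisymm ?_ ?_, fun q hq => (ext_all q).choose_spec⟩, hEQ⟩
  · have hspan : ∀ q : Fin r → P, (∀ i, q i ∈ D.Q) →
        ι q ∈ Submodule.span (WittVector p R) (Set.range fun q : Fin r → D.Q => exteriorPower.ιMulti (WittVector p R) r (fun i => (q i : P))) :=
      fun q hq => Submodule.subset_span ⟨fun i => ⟨q i, hq i⟩, rfl⟩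
    rw [hEQ]
    refine sup_le ?_ ?_
    · rw [hΛdef, LinearMap.range_eq_map, ← exteriorPower.ιMulti_span (WittVector p R) r P, Submodule.map_span_le]
      rintro _ ⟨m, rfl⟩
      rw [exteriorPower.map_apply_ιMulti]
      exact hspan _ fun i => hLQ (hπLL (m i))
    · refine Submodule.smul_le.mpr fun w hw z hz => ?_
      have hz' : z = z - Λ z := by rw [LinearMap.mem_ker.mp hz, sub_zero]
      rw [hz']
      clear hz hz'
      have hzspan : z ∈ Submodule.span (WittVector p R) (Set.range ι) := by rw [exteriorPower.ιMulti_span]; trivial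
      induction hzspan using Submodule.span_induction with
      | mem y hy =>
        obtain ⟨m, rfl⟩ := hy
        suffices ∀ (s : Finset (Fin r)) (m : Fin r → P), (∀ i, i ∉ s → (m i ∈ L ∨ m i = t₀)) →
            w • (ι m - Λ (ι m)) ∈ Submodule.span (WittVector p R) (Set.range fun q : Fin r → D.Q =>
              exteriorPower.ιMulti (WittVector p R) r (fun i => (q i : P))) from
          this Finset.univ m fun i hi => absurd (Finset.mem_univ i) hi
        intro s
        induction s using Finset.induction with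
        | empty =>
          intro m hm
          by_cases hall : ∀ i, m i ∈ L
          · rw [hΛdef, exteriorPower.map_apply_ιMulti, show (⇑πL ∘ m) = m from funext fun i => hLl _ (hall i),
              sub_self, smul_zero]
            exact zero_mem _
          · push Not at hall
            obtain ⟨i, hi⟩ := hall
            have hti := (hm i (Finset.notMem_empty i)).resolve_left hi
            have h0 : Λ (ι m) = 0 := by
              rw [hΛdef, exteriorPower.map_apply_ιMulti]
              exact AlternatingMap.map_coord_zero _ i (by simp [hti, hLt t₀ ht₀])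
            rw [h0, sub_zero]
            by_cases hother : ∀ k, k ≠ i → m k ∈ L
            · rw [show w • ι m = ι (Function.update m i (w • m i)) by
                rw [AlternatingMap.map_update_smul, Function.update_eq_self]]
              refine hspan _ fun k => ?_
              by_cases hk : k = i
              · subst hk; rw [Function.update_self, hti]; exact hITQ (Submodule.smul_mem_smul hw ht₀)
              · rw [Function.update_of_ne hk]; exact hLQ (hother k hk)
            · push Not at hother
              obtain ⟨k, hki, hk⟩ := hother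
              rw [AlternatingMap.map_eq_zero_of_eq ι m (i := i) (j := k)
                (hti.trans ((hm k (Finset.notMem_empty k)).resolve_left hk).symm) (Ne.symm hki), smul_zero]
              exact zero_mem _
        | insert i s his ih =>
          intro m hm
          obtain ⟨l, hl, t, ht, hlt⟩ := Submodule.mem_sup.mp (hLT.sup_eq_top ▸ Submodule.mem_top : m i ∈ L ⊔ T)
          obtain ⟨c, rfl⟩ := htT t ht
          have hmi : ι m = ι (Function.update m i l) + c • ι (Function.update m i t₀) := by
            rw [← AlternatingMap.map_update_smul, ← AlternatingMap.map_update_add, hlt, Function.update_eq_self]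
          have hg : ∀ y, (y ∈ L ∨ y = t₀) → ∀ j, j ∉ s → (Function.update m i y j ∈ L ∨ Function.update m i y j = t₀) :=
            fun y hy j hj => by
              by_cases h : j = i
              · subst h; simpa using hy
              · rw [Function.update_of_ne h]; exact hm j (by simp [h, hj])
          rw [hmi, map_add, map_smul]
          convert add_mem (ih _ (hg l (Or.inl hl))) (Submodule.smul_mem _ c (ih _ (hg t₀ (Or.inr rfl)))) using 1
          module
      | zero => simp
      | add a b _ _ ha hb => rw [map_add, add_sub_add_comm, smul_add]; exact add_mem ha hb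
      | smul c a _ ha => rw [map_smul, ← smul_sub, smul_comm]; exact Submodule.smul_mem _ c ha
  · refine Submodule.span_le.mpr ?_
    rintro _ ⟨q, rfl⟩
    exact (ext_all q).choose

end Groth.Agent.H27Disp
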