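import Groth.Agent.H27Disp.Matrix
import Groth.Agent.H27Disp.IdemEnd

/-! # Composition of iterates of `V^#` and the nilpotence modulo every truncation -/

set_option autoImplicit false

namespace Groth.Agent.H27Disp

open WittVector Dieu

universe u v

variable {p : ℕ} [hp : Fact p.Prime] {R : Type u} [CommRing R]
variable {P : Type v} [AddCommGroup P] [Module (WittVector p R) P]


theorem pow_comp_pow (a b : ℕ) : ((WittVector.frobenius : WittVector p R →+* WittVector p R) ^ a).comp ((WittVector.frobenius : WittVector p R →+* WittVector p R) ^ b) = (WittVector.frobenius : WittVector p R →+* WittVector p R) ^ (a + b) := by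
  rw [pow_add]; rfl

variable (Vs : P →ₗ[WittVector p R] BC (WittVector.frobenius : WittVector p R →+* WittVector p R) P)

/-- `w ⊗ y ↦ w • (σ^(b+1))_* (V^((N+1)#) y)`. -/
noncomputable def pushPow (N b : ℕ) : BC ((WittVector.frobenius : WittVector p R →+* WittVector p R) ^ (b + 1)) P →ₗ[WittVector p R] BC ((WittVector.frobenius : WittVector p R →+* WittVector p R) ^ (N + 1 + b + 1)) P :=
  BC.lift ((WittVector.frobenius : WittVector p R →+* WittVector p R) ^ (b + 1))
    ({ toFun := fun y => BC.castHom (by rw [pow_comp_pow]; congr 1; omega) (BC.push ((WittVector.frobenius : WittVector p R →+* WittVector p R) ^ (N + 1)) ((WittVector.frobenius : WittVector p R →+* WittVector p R) ^ (b + 1)) (vSharpPow Vs N y))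
       map_add' := fun y z => by rw [map_add, map_add, map_add]
       map_smul' := fun w y => by rw [map_smul, LinearMap.map_smulₛₗ, map_smul] } : P →ₛₗ[(WittVector.frobenius : WittVector p R →+* WittVector p R) ^ (b + 1)] _)

theorem pushPow_tmul (N b : ℕ) (w : WittVector p R) (y : P) :
    pushPow Vs N b (BC.tmul _ w y) =
      w • BC.castHom (by rw [pow_comp_pow]; congr 1; omega) (BC.push ((WittVector.frobenius : WittVector p R →+* WittVector p R) ^ (N + 1)) ((WittVector.frobenius : WittVector p R →+* WittVector p R) ^ (b + 1)) (vSharpPow Vs N y)) :=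
  BC.lift_tmul _ _ w y

theorem vSharpPow_add (N : ℕ) : ∀ (b : ℕ) (x : P), vSharpPow Vs (N + 1 + b) x =
    pushPow Vs N b (vSharpPow Vs b x) := by
  intro b
  induction b with
  | zero =>
    intro x
    show vSharpPow Vs (N + 1) x = _
    rw [vSharpPow_succ_apply, vSharpPow_zero_apply]
    generalize Vs x = ζ
    induction ζ using BC.induction_on with
    | zero => simp
    | tmul u y =>
      rw [BC.castHom_tmul, pushPow_tmul, BC.map_tmul, BC.lift_tmul, map_smul]
      congr 1
    | add a b ha hb => simp only [map_add, ha, hb]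
  | succ b ih =>
    intro x
    show vSharpPow Vs ((N + 1 + b) + 1) x = _
    rw [vSharpPow_succ_apply, vSharpPow_succ_apply]
    generalize Vs x = ζ
    induction ζ using BC.induction_on with
    | zero => simp
    | tmul u y =>
      rw [BC.map_tmul, BC.map_tmul, BC.lift_tmul, BC.lift_tmul, map_smul, map_smul, map_smul, ih]
      congr 1
      generalize vSharpPow Vs b y = η
      induction η using BC.induction_on with
      | zero => simp
      | tmul c z =>
        rw [pushPow_tmul, BC.push_tmul, BC.castHom_tmul, pushPow_tmul, LinearMap.map_smulₛₗ, map_smul]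
        congr 1
        generalize vSharpPow Vs N z = θ
        induction θ using BC.induction_on with
        | zero => simp
        | tmul d t =>
          simp only [BC.push_tmul, BC.castHom_tmul]
          congr 1
          exact (frobenius_pow_succ_apply (b + 1) d).symm
        | add a b ha hb => simp only [map_add, ha, hb]
      | add a b ha hb => simp only [map_add, ha, hb]
    | add a b ha hb => simp only [map_add, ha, hb]

theorem pushPow_mem (N b : ℕ) (K : Ideal (WittVector p R)) (hK : K.map (WittVector.frobenius : WittVector p R →+* WittVector p R) ≤ K)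
    (hN : ∀ y, vSharpPow Vs N y ∈ K • (⊤ : Submodule (WittVector p R) (BC ((WittVector.frobenius : WittVector p R →+* WittVector p R) ^ (N + 1)) P)))
    (η : BC ((WittVector.frobenius : WittVector p R →+* WittVector p R) ^ (b + 1)) P) :
    pushPow Vs N b η ∈ K • (⊤ : Submodule (WittVector p R) (BC ((WittVector.frobenius : WittVector p R →+* WittVector p R) ^ (N + 1 + b + 1)) P)) := by
  induction η using BC.induction_on with
  | zero => simp
  | tmul c z =>
    rw [pushPow_tmul]
    refine Submodule.smul_mem _ c (map_mem_smul_top K (BC.castHom _) ?_)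
    refine Submodule.smul_induction_on (p := fun θ => BC.push ((WittVector.frobenius : WittVector p R →+* WittVector p R) ^ (N + 1)) ((WittVector.frobenius : WittVector p R →+* WittVector p R) ^ (b + 1)) θ ∈ _) (hN z)
      (fun w hw t _ => ?_) (fun a a' ha ha' => ?_)
    · rw [LinearMap.map_smulₛₗ]
      refine Submodule.smul_mem_smul ?_ Submodule.mem_top
      rw [RingHom.coe_pow]
      exact Set.MapsTo.iterate (s := (K : Set (WittVector p R))) (fun x hx => hK (Ideal.mem_map_of_mem _ hx)) _ hw
    · rw [map_add]; exact add_mem ha ha'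
  | add a a' ha ha' => rw [map_add]; exact add_mem ha ha'

theorem exists_vSharpPow_mem (hR : IsNilpotent (p : R)) (hnil : IsVNilpotent Vs) (n : ℕ) :
    ∃ N : ℕ, ∀ x : P, vSharpPow Vs N x ∈ RingHom.ker (WittVector.truncate (p := p) (R := R) n) •
      (⊤ : Submodule (WittVector p R) (BC ((WittVector.frobenius : WittVector p R →+* WittVector p R) ^ (N + 1)) P)) := by
  obtain ⟨m, hm⟩ := hnil
  simp only [← ker_red] at hm
  set J := RingHom.ker (red p R)
  have hJσ : J.map (WittVector.frobenius : WittVector p R →+* WittVector p R) ≤ J := by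
    refine Ideal.map_le_iff_le_comap.mpr fun x hx => ?_
    rw [Ideal.mem_comap, RingHom.mem_ker, red_frobenius, RingHom.mem_ker.mp hx, map_zero]
  have hJi : ∀ i, (J ^ i).map (WittVector.frobenius : WittVector p R →+* WittVector p R) ≤ J ^ i := fun i => by
    rw [Ideal.map_pow]; exact Ideal.pow_right_mono hJσ i
  have key : ∀ i, ∃ N, ∀ x, vSharpPow Vs N x ∈ J ^ (i + 1) • (⊤ : Submodule (WittVector p R) (BC ((WittVector.frobenius : WittVector p R →+* WittVector p R) ^ (N + 1)) P)) := by
    intro i
    induction i with
    | zero => exact ⟨m, fun x => by rw [zero_add, pow_one]; exact hm x⟩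
    | succ i ih =>
      obtain ⟨N, hN⟩ := ih
      refine ⟨N + 1 + m, fun x => ?_⟩
      rw [vSharpPow_add]
      refine Submodule.smul_induction_on (p := fun η => pushPow Vs N m η ∈ _) (hm x) (fun w hw η _ => ?_)
        (fun a a' ha ha' => ?_)
      · rw [map_smul, pow_succ' J (i + 1), Submodule.mul_smul]
        exact Submodule.smul_mem_smul hw (pushPow_mem Vs N m _ (hJi _) hN η)
      · rw [map_add]; exact add_mem ha ha'
  obtain ⟨M, hM⟩ := H3CAlg.WittProj.exists_pow_le_ker_truncate (p := p) (R := R) hR n
  obtain ⟨k, hk⟩ := hR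
  have hJk : J ^ k ≤ H3CAlg.WittProj.VI p R := by
    have : J ≤ (Ideal.span {(p : R)}).comap (WittVector.constantCoeff : WittVector p R →+* R) := fun x hx =>
      Ideal.mem_comap.mpr (Ideal.Quotient.eq_zero_iff_mem.mp
        (show Ideal.Quotient.mk (Ideal.span {(p : R)}) (WittVector.constantCoeff x) = 0 from RingHom.mem_ker.mp hx))
    refine (Ideal.pow_right_mono this k).trans ((Ideal.le_comap_pow _ k).trans ?_)
    rw [Ideal.span_singleton_pow, hk, Ideal.span_singleton_eq_bot.mpr rfl]
    exact fun x hx => hx
  obtain ⟨N, hN⟩ := key (k * M)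
  refine ⟨N, fun x => Submodule.smul_mono ?_ le_rfl (hN x)⟩
  exact ((Ideal.pow_le_pow_right (Nat.le_succ _)).trans (by rw [pow_mul]; exact Ideal.pow_right_mono hJk M)).trans hM

end Groth.Agent.H27Disp
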