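import Groth.Agent.H02CA.CokerProj
import Mathlib

/-! Truncated Dieudonne modules over perfect rings: level-one exactness and projectivity of M/VM. -/

set_option autoImplicit false
set_option linter.style.haveILetI false

open TensorProduct

universe u v

namespace Groth.Agent.H27Disp

section Crit

variable {R : Type u} [CommRing R] {N : Type v} [AddCommGroup N] [Module R N]

theorem mem_smul_top_of_tmul_eq_zero (m : Ideal R) [m.IsMaximal] (n : N)
    (h : (1 : m.ResidueField) ⊗ₜ[R] n = 0) : n ∈ m • (⊤ : Submodule R N) := by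
  let e : (R ⧸ m) ≃ₗ[R] m.ResidueField :=
    LinearEquiv.ofBijective (IsScalarTower.toAlgHom R (R ⧸ m) m.ResidueField).toLinearMap
      (Ideal.bijective_algebraMap_quotient_residueField m)
  have he : e.symm 1 = 1 := by
    rw [LinearEquiv.symm_apply_eq]
    simp [e]
  have := congrArg (quotTensorEquivQuotSMul N m) (congrArg (e.symm.rTensor N) h)
  rw [LinearEquiv.map_zero, LinearEquiv.map_zero, LinearEquiv.rTensor_tmul, he] at this
  rw [show (1 : R ⧸ m) = Ideal.Quotient.mk m 1 from (map_one _).symm, quotTensorEquivQuotSMul_mk_tmul,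
    one_smul, Submodule.Quotient.mk_eq_zero] at this
  exact this

theorem exists_one_tmul (m : Ideal R) [m.IsMaximal] {M : Type*} [AddCommGroup M] [Module R M]
    (z : m.ResidueField ⊗[R] M) : ∃ c, (1 : m.ResidueField) ⊗ₜ[R] c = z := by
  induction z using TensorProduct.induction_on with
  | zero => exact ⟨0, by simp⟩
  | tmul a c =>
    obtain ⟨r, rfl⟩ := (Ideal.bijective_algebraMap_quotient_residueField m).2 a
    obtain ⟨r, rfl⟩ := Ideal.Quotient.mk_surjective r
    refine ⟨r • c, ?_⟩
    rw [TensorProduct.tmul_smul, TensorProduct.smul_tmul', Algebra.smul_def, mul_one]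
    rfl
  | add a b ha hb =>
    obtain ⟨c, rfl⟩ := ha
    obtain ⟨c', rfl⟩ := hb
    exact ⟨c + c', TensorProduct.tmul_add _ _ _⟩

theorem projective_quot_span_range [Module.Finite R N] [Module.Projective R N] (τ : R ≃+* R)
    (f w : N →+ N)
    (hw : ∀ (r : R) n, w (r • n) = τ r • w n) (hwf : ∀ n, w (f n) = 0)
    (hτ : ∀ (m : Ideal R), m.IsMaximal → ∀ r, τ r ∈ m ↔ r ∈ m)
    (hex : ∀ (m : Ideal R), m.IsMaximal → ∀ x, w x ∈ m • (⊤ : Submodule R N) →
      ∃ z, x - f z ∈ m • (⊤ : Submodule R N)) :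
    Module.Projective R (N ⧸ Submodule.span R (Set.range w)) := by
  classical
  obtain ⟨l, g, hg⟩ := Module.Finite.exists_fin' R N
  let d : (Fin l → R) →ₗ[R] N := Fintype.linearCombination R (fun i => w (g (Pi.single i 1)))
  have hd : ∀ a : Fin l → R, w (g a) = d fun i => τ (a i) := by
    intro a
    have : a = ∑ i, a i • Pi.single i (1 : R) := by
      ext j
      simp [Finset.sum_apply, Pi.single_apply]
    conv_lhs => rw [this]
    simp [d, Fintype.linearCombination_apply, map_sum, hw]
  have hrange : Submodule.span R (Set.range w) = LinearMap.range d := by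
    refine le_antisymm (Submodule.span_le.mpr ?_) ?_
    · rintro _ ⟨n, rfl⟩
      obtain ⟨a, rfl⟩ := hg n
      exact ⟨_, (hd a).symm⟩
    · rintro _ ⟨a, rfl⟩
      simp only [d, Fintype.linearCombination_apply]
      exact sum_mem fun i _ => Submodule.smul_mem _ _ (Submodule.subset_span ⟨_, rfl⟩)
  rw [hrange]
  haveI : Module.FinitePresentation R N := Module.finitePresentation_of_projective R N
  haveI : Module.FinitePresentation R (N ⧸ LinearMap.range d) :=
    Module.finitePresentation_of_surjective (LinearMap.range d).mkQ (Submodule.mkQ_surjective _)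
      (by rw [Submodule.ker_mkQ]
          exact (LinearMap.range_eq_map d) ▸ Module.Finite.fg_top.map d)
  refine Module.projective_of_localization_maximal fun m hm => ?_
  haveI := hm
  refine H02CA.CokerProj.projective_localizedModule (H02CA.CokerProj.quasiInv_of_ker_baseChange_le m ?_)
  intro z hz
  obtain ⟨c, rfl⟩ := exists_one_tmul m z
  rw [LinearMap.mem_ker, LinearMap.baseChange_tmul] at hz
  have hdc := mem_smul_top_of_tmul_eq_zero m _ hz
  let c' : Fin l → R := fun i => τ.symm (c i)
  have hc' : w (g c') = d c := by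
    rw [hd]
    congr 1
    ext i
    simp [c']
  obtain ⟨y, hy⟩ := hex m hm (g c') (hc' ▸ hdc)
  obtain ⟨e, he, hge⟩ : ∃ e ∈ m • (⊤ : Submodule R (Fin l → R)), g e = g c' - f y := by
    have : m • (⊤ : Submodule R N) = (m • (⊤ : Submodule R (Fin l → R))).map g := by
      rw [Submodule.map_smul'', Submodule.map_top, LinearMap.range_eq_top.mpr hg]
    rw [this] at hy
    exact hy
  let a : Fin l → R := c' - e
  have ha : d (fun i => τ (a i)) = 0 := by
    rw [← hd]
    simp [a, hge, hwf]
  have hei : ∀ i, e i ∈ m := fun i => by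
    refine Submodule.smul_induction_on he (fun r hr n _ => ?_) (fun x y hx hy => ?_)
    · simpa using m.mul_mem_right (n i) hr
    · simpa using m.add_mem hx hy
  refine ⟨(1 : m.ResidueField) ⊗ₜ[R] (⟨_, ha⟩ : LinearMap.ker d), ?_⟩
  rw [LinearMap.baseChange_tmul, Submodule.subtype_apply]
  have hc : c = (fun i => τ (a i)) + fun i => τ (e i) := by
    ext i
    simp [a, c']
  have h0 : (1 : m.ResidueField) ⊗ₜ[R] (fun i => τ (e i)) = 0 := by
    have : (fun i => τ (e i)) = ∑ i, τ (e i) • Pi.single i (1 : R) := by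
      ext j
      simp [Finset.sum_apply, Pi.single_apply]
    rw [this, TensorProduct.tmul_sum]
    refine Finset.sum_eq_zero fun i _ => ?_
    rw [TensorProduct.tmul_smul, TensorProduct.smul_tmul', Algebra.smul_def, mul_one,
      Ideal.algebraMap_residueField_eq_zero.mpr ((hτ m hm _).mpr (hei i)), TensorProduct.zero_tmul]
  show _ = (1 : m.ResidueField) ⊗ₜ[R] c
  rw [hc, TensorProduct.tmul_add, h0, add_zero]

end Crit

section Witt

variable {p : ℕ} [Fact p.Prime] {k : Type u} [CommRing k] [CharP k p] [PerfectRing k p]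

/-- The preimage in `(WittVector p k)(k)` of an ideal of `k`. -/
noncomputable def pre (I : Ideal k) : Ideal (WittVector p k) := I.comap WittVector.constantCoeff

theorem mem_pre {I : Ideal k} {x : (WittVector p k)} : x ∈ pre I ↔ x.coeff 0 ∈ I := Iff.rfl

theorem exists_eq_teichmuller_add (x : (WittVector p k)) :
    ∃ z, x = WittVector.teichmuller p (x.coeff 0) + (p : (WittVector p k)) * z := by
  have h : (x - WittVector.teichmuller p (x.coeff 0)).coeff 0 = 0 := by
    show WittVector.constantCoeff (x - WittVector.teichmuller p (x.coeff 0)) = (0 : k)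
    rw [map_sub]
    simp [WittVector.teichmuller_coeff_zero]
  obtain ⟨z, hz⟩ := Ideal.mem_span_singleton'.mp ((WittVector.mem_span_p_iff_coeff_zero_eq_zero _).mpr h)
  exact ⟨z, by rw [mul_comm, hz, add_sub_cancel]⟩

theorem p_mem_pre (I : Ideal k) : (p : (WittVector p k)) ∈ pre I := by
  rw [mem_pre]
  show WittVector.constantCoeff (p : (WittVector p k)) ∈ I
  simp

theorem pre_eq_sup (I : Ideal k) :
    pre I = Ideal.span {(p : (WittVector p k))} ⊔ RingHom.ker (WittVector.map (p := p) (Ideal.Quotient.mk I)) := by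
  refine le_antisymm (fun x hx => ?_) (sup_le ((Ideal.span_singleton_le_iff_mem _).mpr (p_mem_pre I)) fun x hx => ?_)
  · obtain ⟨z, hz⟩ := exists_eq_teichmuller_add x
    rw [hz, add_comm]
    refine Submodule.add_mem_sup (Ideal.mul_mem_right _ _ (Ideal.mem_span_singleton_self _)) ?_
    rw [RingHom.mem_ker, WittVector.map_teichmuller, Ideal.Quotient.eq_zero_iff_mem.mpr (mem_pre.mp hx),
      WittVector.teichmuller_zero]
  · rw [mem_pre, ← Ideal.Quotient.eq_zero_iff_mem, ← WittVector.map_coeff, RingHom.mem_ker.mp hx,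
      WittVector.zero_coeff]

theorem mem_pre_of_p_mul {I : Ideal k} (hI : I.IsRadical) {n : ℕ} (hn : 2 ≤ n) {x : (WittVector p k)}
    (h : (p : (WittVector p k)) * x ∈ RingHom.ker (WittVector.map (p := p) (Ideal.Quotient.mk I)) ⊔ Ideal.span {(p : (WittVector p k)) ^ n}) :
    x ∈ pre I := by
  obtain ⟨a, ha, b, hb, hab⟩ := Submodule.mem_sup.mp h
  obtain ⟨u, rfl⟩ := Ideal.mem_span_singleton'.mp hb
  obtain ⟨m, rfl⟩ : ∃ m, n = m + 2 := ⟨n - 2, by omega⟩
  have h1 := congrArg (fun y => (WittVector.map (Ideal.Quotient.mk I) y).coeff 1) hab.symm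
  simp only [map_add, RingHom.mem_ker.mp ha, zero_add, WittVector.map_coeff] at h1
  rw [mul_comm (p : (WittVector p k)) x, WittVector.mul_charP_coeff_succ x 0, pow_succ, ← mul_assoc,
    WittVector.mul_charP_coeff_succ _ 0, pow_succ, ← mul_assoc] at h1
  have h0 : (u * (p : (WittVector p k)) ^ m * (p : (WittVector p k))).coeff 0 = 0 := by
    show WittVector.constantCoeff (u * (p : WittVector p k) ^ m * (p : WittVector p k)) = (0 : k)
    rw [map_mul, map_natCast, CharP.cast_eq_zero k p, mul_zero]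
  rw [h0, zero_pow (Fact.out : p.Prime).ne_zero, map_zero, Ideal.Quotient.eq_zero_iff_mem] at h1
  exact hI ⟨p, h1⟩

variable {M : Type v} [AddCommGroup M] [Module (WittVector p k) M]

theorem mem_pre_smul_of_p_smul {ι : Type*} [Finite ι] {n : ℕ} (hn : 2 ≤ n) (𝔟 : Ideal (WittVector p k))
    (h𝔟 : 𝔟 ≤ Ideal.span {(p : (WittVector p k)) ^ n}) (s : M →ₗ[(WittVector p k)] (ι → (WittVector p k) ⧸ 𝔟)) (π : (ι → (WittVector p k) ⧸ 𝔟) →ₗ[(WittVector p k)] M)
    (hs : ∀ x, π (s x) = x) {I : Ideal k} (hI : I.IsRadical) {x : M}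
    (h : (p : (WittVector p k)) • x ∈ RingHom.ker (WittVector.map (p := p) (Ideal.Quotient.mk I)) • (⊤ : Submodule (WittVector p k) M)) :
    x ∈ pre (p := p) I • (⊤ : Submodule (WittVector p k) M) := by
  classical
  cases nonempty_fintype ι
  set 𝔞 := RingHom.ker (WittVector.map (p := p) (Ideal.Quotient.mk I))
  have hsx : ∀ i, (p : (WittVector p k)) • s x i ∈ 𝔞.map (Ideal.Quotient.mk 𝔟) := by
    intro i
    rw [← Pi.smul_apply, ← LinearMap.map_smul]
    refine Submodule.smul_induction_on h (fun r hr y _ => ?_) (fun a b ha hb => ?_)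
    · rw [LinearMap.map_smul, Pi.smul_apply, Algebra.smul_def]
      exact Ideal.mul_mem_right _ _ (Ideal.mem_map_of_mem _ hr)
    · rw [LinearMap.map_add]
      exact add_mem ha hb
  rw [← hs x, show s x = ∑ i, Pi.single i (s x i) from (Finset.univ_sum_single _).symm, map_sum]
  refine sum_mem fun i _ => ?_
  obtain ⟨w, hw⟩ := Ideal.Quotient.mk_surjective (s x i)
  have hpw : (p : (WittVector p k)) * w ∈ 𝔞 ⊔ Ideal.span {(p : (WittVector p k)) ^ n} := by
    have := hsx i
    rw [← hw, Algebra.smul_def, Ideal.Quotient.algebraMap_eq, ← map_mul,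
      Ideal.mem_quotient_iff_mem_sup] at this
    exact sup_le_sup le_rfl h𝔟 this
  have : Pi.single i (s x i) = w • (Pi.single i (1 : (WittVector p k) ⧸ 𝔟) : ι → (WittVector p k) ⧸ 𝔟) := by
    ext j
    rw [Pi.smul_apply]
    by_cases hj : j = i
    · subst hj
      rw [Pi.single_eq_same, Pi.single_eq_same, Algebra.smul_def, mul_one, ← hw]
      rfl
    · simp [hj]
  rw [this, LinearMap.map_smul]
  exact Submodule.smul_mem_smul (mem_pre_of_p_mul hI hn hpw) trivial

variable (F : M →ₛₗ[(WittVector.frobenius : (WittVector p k) →+* (WittVector p k))] M)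
  (V : M →ₛₗ[((WittVector.frobeniusEquiv p k).symm : (WittVector p k) →+* (WittVector p k))] M)

theorem F_map_ker_map_smul {I : Ideal k} {x : M}
    (h : x ∈ RingHom.ker (WittVector.map (p := p) (Ideal.Quotient.mk I)) • (⊤ : Submodule (WittVector p k) M)) :
    F x ∈ RingHom.ker (WittVector.map (p := p) (Ideal.Quotient.mk I)) • (⊤ : Submodule (WittVector p k) M) := by
  refine Submodule.smul_induction_on h (fun r hr y _ => ?_) (fun a b ha hb => ?_)
  · rw [F.map_smulₛₗ]
    refine Submodule.smul_mem_smul ?_ trivial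
    refine RingHom.mem_ker.mpr (WittVector.ext fun i => ?_)
    rw [WittVector.map_coeff, WittVector.coeff_frobenius_charP, map_pow, ← WittVector.map_coeff,
      RingHom.mem_ker.mp hr, WittVector.zero_coeff, zero_pow (Fact.out : p.Prime).ne_zero]
  · rw [map_add]
    exact add_mem ha hb

/-- Exactness at the fibre over a radical ideal. -/
theorem exists_sub_F_mem (hFV : ∀ m : M, F (V m) = (p : (WittVector p k)) • m) {I : Ideal k}
    (htor : ∀ {x : M}, (p : (WittVector p k)) • x ∈ RingHom.ker (WittVector.map (p := p) (Ideal.Quotient.mk I)) • (⊤ : Submodule (WittVector p k) M) →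
      x ∈ pre (p := p) I • (⊤ : Submodule (WittVector p k) M))
    {x : M} (h : V x ∈ pre (p := p) I • (⊤ : Submodule (WittVector p k) M)) :
    ∃ y, x - F y ∈ pre (p := p) I • (⊤ : Submodule (WittVector p k) M) := by
  rw [pre_eq_sup, Submodule.sup_smul, Submodule.mem_sup] at h
  obtain ⟨a, ha, b, hb, hab⟩ := h
  rw [Submodule.ideal_span_singleton_smul] at ha
  obtain ⟨y, -, rfl⟩ := ha
  refine ⟨y, htor ?_⟩
  have e := congrArg F hab
  rw [map_add, hFV] at e
  change F ((p : (WittVector p k)) • y) + F b = _ at e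
  rw [F.map_smulₛₗ, map_natCast] at e
  rw [smul_sub, ← e, add_sub_cancel_left]
  exact F_map_ker_map_smul F hb

theorem isReduced_perfect (p : ℕ) [Fact p.Prime] (k : Type u) [CommRing k] [CharP k p] [PerfectRing k p] :
    IsReduced k :=
  ⟨fun x ⟨m, hm⟩ => by
    apply (iterateFrobeniusEquiv k p m).injective
    rw [map_zero, iterateFrobeniusEquiv_apply, iterateFrobenius_def]
    obtain ⟨d, hd⟩ := Nat.exists_eq_add_of_le (Nat.lt_pow_self (Fact.out : p.Prime).one_lt (n := m)).le
    rw [hd, pow_add, hm, zero_mul]⟩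

theorem ker_map_bot : RingHom.ker (WittVector.map (p := p) (Ideal.Quotient.mk (⊥ : Ideal k))) = ⊥ := by
  refine eq_bot_iff.mpr fun x hx => WittVector.ext fun i => ?_
  have := congrArg (fun y => WittVector.coeff y i) (RingHom.mem_ker.mp hx)
  simpa [WittVector.map_coeff, Ideal.Quotient.eq_zero_iff_mem] using this

theorem pre_bot : pre (⊥ : Ideal k) = Ideal.span {(p : WittVector p k)} := by
  rw [pre_eq_sup, ker_map_bot, sup_bot_eq]

theorem comap_eq_aux {σ τ : WittVector p k →+* WittVector p k} [RingHomSurjective σ]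
    (A : M →ₛₗ[σ] M) (B : M →ₛₗ[τ] M) (hAB : ∀ m, A (B m) = (p : WittVector p k) • m)
    (hBA : ∀ m, B (A m) = (p : WittVector p k) • m)
    (htor : ∀ {x : M}, (p : WittVector p k) • x = 0 → x ∈ Ideal.span {(p : WittVector p k)} • (⊤ : Submodule (WittVector p k) M)) :
    (Ideal.span {(p : WittVector p k)} • (⊤ : Submodule (WittVector p k) M)).comap A =
      Submodule.span (WittVector p k) (Set.range B) ⊔ Ideal.span {(p : WittVector p k)} • (⊤ : Submodule (WittVector p k) M) := by
  have hmem : ∀ y : M, (p : WittVector p k) • y ∈ Ideal.span {(p : WittVector p k)} • (⊤ : Submodule (WittVector p k) M) :=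
    fun y => Submodule.smul_mem_smul (Ideal.mem_span_singleton_self _) trivial
  refine le_antisymm (fun x hx => ?_) (sup_le (Submodule.span_le.mpr ?_) fun x hx => ?_)
  · rw [Submodule.mem_comap, Submodule.ideal_span_singleton_smul] at hx
    obtain ⟨y, -, hy⟩ := hx
    change (p : WittVector p k) • y = A x at hy
    have h : (p : WittVector p k) • (x - B y) = 0 := by
      rw [smul_sub, ← hBA x, ← hy, B.map_smulₛₗ, map_natCast, sub_self]
    rw [← add_sub_cancel (B y) x]
    exact Submodule.add_mem_sup (Submodule.subset_span ⟨y, rfl⟩) (htor h)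
  · rintro _ ⟨y, rfl⟩
    rw [SetLike.mem_coe, Submodule.mem_comap, hAB]
    exact hmem y
  · rw [Submodule.ideal_span_singleton_smul] at hx
    obtain ⟨y, -, rfl⟩ := hx
    rw [Submodule.mem_comap, DistribSMul.toLinearMap_apply, A.map_smulₛₗ, map_natCast]
    exact hmem _

theorem comap_eq {ι : Type*} [Finite ι] {n : ℕ} (hn : 2 ≤ n) (𝔟 : Ideal (WittVector p k))
    (h𝔟 : 𝔟 ≤ Ideal.span {(p : WittVector p k) ^ n}) (s : M →ₗ[WittVector p k] (ι → WittVector p k ⧸ 𝔟))
    (π : (ι → WittVector p k ⧸ 𝔟) →ₗ[WittVector p k] M) (hs : ∀ x, π (s x) = x)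
    (hFV : ∀ m : M, F (V m) = (p : WittVector p k) • m) (hVF : ∀ m : M, V (F m) = (p : WittVector p k) • m) :
    (Ideal.span {(p : WittVector p k)} • (⊤ : Submodule (WittVector p k) M)).comap F =
        Submodule.span (WittVector p k) (Set.range V) ⊔ Ideal.span {(p : WittVector p k)} • (⊤ : Submodule (WittVector p k) M) ∧
      (Ideal.span {(p : WittVector p k)} • (⊤ : Submodule (WittVector p k) M)).comap V =
        Submodule.span (WittVector p k) (Set.range F) ⊔ Ideal.span {(p : WittVector p k)} • (⊤ : Submodule (WittVector p k) M) := by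
  haveI := isReduced_perfect p k
  have htor : ∀ {x : M}, (p : WittVector p k) • x = 0 →
      x ∈ Ideal.span {(p : WittVector p k)} • (⊤ : Submodule (WittVector p k) M) := fun {x} hx => by
    rw [← pre_bot]
    refine mem_pre_smul_of_p_smul hn 𝔟 h𝔟 s π hs (I := ⊥) (Ideal.isRadical_bot_iff.mpr inferInstance) ?_
    rw [hx]
    exact zero_mem _
  haveI : RingHomSurjective (WittVector.frobenius : WittVector p k →+* WittVector p k) :=
    ⟨(WittVector.frobenius_bijective p k).2⟩
  exact ⟨comap_eq_aux F V hFV hVF htor, comap_eq_aux V F hVF hFV htor⟩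

theorem projective_cotangent {ι : Type*} [Finite ι] [Module.Finite (WittVector p k) M] {n : ℕ} (hn : 2 ≤ n)
    (𝔟 : Ideal (WittVector p k)) (h𝔟 : 𝔟 ≤ Ideal.span {(p : WittVector p k) ^ n})
    (s : M →ₗ[WittVector p k] (ι → WittVector p k ⧸ 𝔟))
    (π : (ι → WittVector p k ⧸ 𝔟) →ₗ[WittVector p k] M) (hs : ∀ x, π (s x) = x)
    (hFV : ∀ m : M, F (V m) = (p : WittVector p k) • m) (hVF : ∀ m : M, V (F m) = (p : WittVector p k) • m) :
    Module.Projective (WittVector p k ⧸ Ideal.span {(p : WittVector p k)})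
      ((M ⧸ (Ideal.span {(p : WittVector p k)} • (⊤ : Submodule (WittVector p k) M))) ⧸
        Submodule.span (WittVector p k ⧸ Ideal.span {(p : WittVector p k)})
          (Set.range fun m : M => (Ideal.span {(p : WittVector p k)} • (⊤ : Submodule (WittVector p k) M)).mkQ (V m))) := by
  classical
  cases nonempty_fintype ι
  let P := Ideal.span {(p : WittVector p k)} • (⊤ : Submodule (WittVector p k) M)
  let R := WittVector p k ⧸ Ideal.span {(p : WittVector p k)}
  haveI : Module.Finite R (M ⧸ P) := Module.Finite.of_restrictScalars_finite (WittVector p k) R _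
  have hbP : 𝔟 ≤ Ideal.span {(p : WittVector p k)} :=
    h𝔟.trans (Ideal.span_singleton_le_span_singleton.mpr (dvd_pow_self _ (by omega)))
  -- `M/pM` is a direct summand of a free module
  let q : (WittVector p k ⧸ 𝔟) →ₗ[WittVector p k] R := Submodule.factor hbP
  let s₀ : M →ₗ[WittVector p k] (ι → R) := q.compLeft ι ∘ₗ s
  have hker : P ≤ LinearMap.ker s₀ := by
    refine Submodule.smul_le.mpr fun r hr y _ => ?_
    ext i
    rw [LinearMap.map_smul, Pi.smul_apply, Algebra.smul_def, Ideal.Quotient.algebraMap_eq,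
      Ideal.Quotient.eq_zero_iff_mem.mpr hr, zero_mul]
    rfl
  let s₁ : (M ⧸ P) →ₗ[R] (ι → R) :=
    LinearMap.extendScalarsOfSurjective Ideal.Quotient.mk_surjective (P.liftQ s₀ hker)
  let π₁ : (ι → R) →ₗ[R] (M ⧸ P) := Fintype.linearCombination R (fun i => P.mkQ (π (Pi.single i 1)))
  haveI : Module.Projective R (M ⧸ P) := by
    refine Module.Projective.of_split s₁ π₁ (LinearMap.ext fun x => ?_)
    obtain ⟨x, rfl⟩ := P.mkQ_surjective x
    show π₁ (s₀ x) = P.mkQ x
    conv_rhs => rw [← hs x, show s x = ∑ i, Pi.single i (s x i) from (Finset.univ_sum_single _).symm, map_sum, map_sum]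
    rw [Fintype.linearCombination_apply]
    refine Finset.sum_congr rfl fun i _ => ?_
    obtain ⟨a, ha⟩ := Ideal.Quotient.mk_surjective (s x i)
    have hsingle : Pi.single i (s x i) = a • (Pi.single i (1 : WittVector p k ⧸ 𝔟) : ι → WittVector p k ⧸ 𝔟) := by
      ext j
      rw [Pi.smul_apply]
      by_cases hj : j = i
      · subst hj
        rw [Pi.single_eq_same, Pi.single_eq_same, Algebra.smul_def, mul_one, ← ha]
        rfl
      · simp [hj]
    rw [hsingle, LinearMap.map_smul, LinearMap.map_smul]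
    have : s₀ x i = Ideal.Quotient.mk _ a := by
      show q (s x i) = _
      rw [← ha]
      rfl
    rw [this]
    rfl
  let τW := (WittVector.frobeniusEquiv p k).symm
  let τ : R ≃+* R := Ideal.quotientEquiv _ _ τW (by rw [Ideal.map_span, Set.image_singleton, map_natCast])
  have hPV : P ≤ P.comap V := by
    refine Submodule.smul_le.mpr fun r hr y _ => ?_
    rw [Submodule.mem_comap, V.map_smulₛₗ]
    refine Submodule.smul_mem_smul ?_ trivial
    obtain ⟨c, rfl⟩ := Ideal.mem_span_singleton'.mp hr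
    rw [map_mul, map_natCast]
    exact Ideal.mul_mem_left _ _ (Ideal.mem_span_singleton_self _)
  have hPF : P ≤ P.comap F := by
    refine Submodule.smul_le.mpr fun r hr y _ => ?_
    rw [Submodule.mem_comap, F.map_smulₛₗ]
    refine Submodule.smul_mem_smul ?_ trivial
    obtain ⟨c, rfl⟩ := Ideal.mem_span_singleton'.mp hr
    rw [map_mul, map_natCast]
    exact Ideal.mul_mem_left _ _ (Ideal.mem_span_singleton_self _)
  let w : (M ⧸ P) →+ (M ⧸ P) := (P.mapQ P V hPV).toAddMonoidHom
  let f : (M ⧸ P) →+ (M ⧸ P) := (P.mapQ P F hPF).toAddMonoidHom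
  have hspan : Submodule.span R (Set.range fun m : M => P.mkQ (V m)) = Submodule.span R (Set.range w) := by
    congr 1
    ext x
    constructor
    · rintro ⟨m, rfl⟩
      exact ⟨P.mkQ m, rfl⟩
    · rintro ⟨y, rfl⟩
      obtain ⟨m, rfl⟩ := P.mkQ_surjective y
      exact ⟨m, rfl⟩
  show Module.Projective R ((M ⧸ P) ⧸ Submodule.span R (Set.range fun m : M => P.mkQ (V m)))
  rw [hspan]
  have hmI : ∀ m : Ideal R, m.IsMaximal → ∃ I : Ideal k, I.IsRadical ∧ m.comap (Ideal.Quotient.mk _) = pre I := by
    intro m hm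
    have hsurj : Function.Surjective (WittVector.constantCoeff : WittVector p k →+* k) := fun c =>
      ⟨WittVector.teichmuller p c, WittVector.teichmuller_coeff_zero p c⟩
    have hker : RingHom.ker (WittVector.constantCoeff : WittVector p k →+* k) ≤ m.comap (Ideal.Quotient.mk _) := by
      intro x hx
      rw [Ideal.mem_comap, Ideal.Quotient.eq_zero_iff_mem.mpr
        ((WittVector.mem_span_p_iff_coeff_zero_eq_zero x).mpr hx)]
      exact zero_mem _
    haveI : (m.comap (Ideal.Quotient.mk _)).IsPrime := Ideal.IsPrime.comap _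
    refine ⟨(m.comap (Ideal.Quotient.mk _)).map WittVector.constantCoeff,
      (Ideal.map_isPrime_of_surjective hsurj hker).isRadical, ?_⟩
    rw [pre, Ideal.comap_map_of_surjective _ hsurj]
    exact (sup_eq_left.mpr hker).symm
  have hmem : ∀ (m : Ideal R) (x : M), P.mkQ x ∈ m • (⊤ : Submodule R (M ⧸ P)) →
      x ∈ m.comap (Ideal.Quotient.mk _) • (⊤ : Submodule (WittVector p k) M) := by
    intro m x hx
    obtain ⟨y, hy, hyx⟩ : ∃ y ∈ m.comap (Ideal.Quotient.mk _) • (⊤ : Submodule (WittVector p k) M), P.mkQ y = P.mkQ x := by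
      refine Submodule.smul_induction_on hx (fun r hr z _ => ?_) (fun a b ha hb => ?_)
      · obtain ⟨r, rfl⟩ := Ideal.Quotient.mk_surjective r
        obtain ⟨z, rfl⟩ := P.mkQ_surjective z
        exact ⟨r • z, Submodule.smul_mem_smul hr trivial, rfl⟩
      · obtain ⟨a', ha', rfl⟩ := ha
        obtain ⟨b', hb', rfl⟩ := hb
        exact ⟨a' + b', add_mem ha' hb', map_add _ _ _⟩
    rw [Submodule.mkQ_apply, Submodule.mkQ_apply, Submodule.Quotient.eq] at hyx
    rw [← sub_sub_cancel y x]
    refine sub_mem hy ?_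
    refine Submodule.smul_mono ?_ le_rfl hyx
    intro c hc
    rw [Ideal.mem_comap, Ideal.Quotient.eq_zero_iff_mem.mpr hc]
    exact zero_mem _
  refine projective_quot_span_range τ f w ?_ ?_ ?_ ?_
  · intro r y
    obtain ⟨r, rfl⟩ := Ideal.Quotient.mk_surjective r
    obtain ⟨y, rfl⟩ := P.mkQ_surjective y
    show P.mkQ (V (r • y)) = τ (Ideal.Quotient.mk _ r) • P.mkQ (V y)
    rw [V.map_smulₛₗ, LinearMap.map_smul]
    rfl
  · intro y
    obtain ⟨y, rfl⟩ := P.mkQ_surjective y
    show P.mkQ (V (F y)) = 0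
    rw [hVF, Submodule.mkQ_apply, Submodule.Quotient.mk_eq_zero]
    exact Submodule.smul_mem_smul (Ideal.mem_span_singleton_self _) trivial
  · intro m hm r
    obtain ⟨r, rfl⟩ := Ideal.Quotient.mk_surjective r
    obtain ⟨I, hI, hmI⟩ := hmI m hm
    show τW r ∈ m.comap (Ideal.Quotient.mk _) ↔ r ∈ m.comap (Ideal.Quotient.mk _)
    rw [hmI, mem_pre, mem_pre]
    have e : r.coeff 0 = (τW r).coeff 0 ^ p := by
      rw [← WittVector.coeff_frobenius_charP]
      exact congrArg (fun y => WittVector.coeff y 0) ((WittVector.frobeniusEquiv p k).apply_symm_apply r).symm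
    rw [e]
    exact ⟨fun h => Ideal.pow_mem_of_mem _ h p (Fact.out : p.Prime).pos, fun h => hI ⟨p, h⟩⟩
  · intro m hm x hx
    obtain ⟨x, rfl⟩ := P.mkQ_surjective x
    obtain ⟨I, hI, hmI⟩ := hmI m hm
    have h1 := hmem m _ (show P.mkQ (V x) ∈ _ from hx)
    rw [hmI] at h1
    obtain ⟨y, hy⟩ := exists_sub_F_mem F V hFV (fun h => mem_pre_smul_of_p_smul hn 𝔟 h𝔟 s π hs hI h) h1
    refine ⟨P.mkQ y, ?_⟩
    show P.mkQ x - P.mkQ (F y) ∈ _
    rw [← map_sub]
    refine Submodule.smul_induction_on hy (fun r hr z _ => ?_) (fun a b ha hb => ?_)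
    · rw [LinearMap.map_smul, ← algebraMap_smul R r]
      refine Submodule.smul_mem_smul ?_ trivial
      rw [← hmI] at hr
      exact hr
    · rw [map_add]
      exact add_mem ha hb

end Witt

end Groth.Agent.H27Disp
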