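import Mathlib

/-! Frobenius is nilpotent on `W(𝔞)`; lifting of maps commuting with Frobenius-linear isomorphisms. -/

set_option autoImplicit false
set_option linter.style.haveILetI false

universe u v w z

namespace Groth.Agent.H27DispLift

variable {p : ℕ} [hp : Fact p.Prime] {S : Type u} [CommRing S]

theorem aeval_sub_zero_mem (I : Ideal S) {x : ℕ → S} (hx : ∀ n, x n ∈ I) (q : MvPolynomial ℕ ℤ) :
    MvPolynomial.aeval x q - MvPolynomial.aeval (0 : ℕ → S) q ∈ I := by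
  have h : ∀ y : ℕ → S, Ideal.Quotient.mk I (MvPolynomial.aeval y q) =
      MvPolynomial.aeval (fun n => Ideal.Quotient.mk I (y n)) q := fun y => by
    rw [MvPolynomial.aeval_def, MvPolynomial.aeval_def, MvPolynomial.eval₂_comp_left]
    congr 1
  rw [← Ideal.Quotient.eq, h, h]
  congr 2
  ext n
  simp [Ideal.Quotient.eq_zero_iff_mem.mpr (hx n)]

theorem aeval_frobeniusPolyAux_mem (I : Ideal S) {x : ℕ → S} (hx : ∀ n, x n ∈ I) (n : ℕ) :
    MvPolynomial.aeval x (WittVector.frobeniusPolyAux p n) ∈ I := by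
  have hz : MvPolynomial.aeval (0 : ℕ → ℤ) (WittVector.frobeniusPolyAux p n) = 0 := by
    have h := WittVector.coeff_frobenius (0 : WittVector p ℤ) n
    rw [map_zero, WittVector.zero_coeff, WittVector.frobeniusPoly] at h
    simp only [map_add, map_pow, map_mul, MvPolynomial.aeval_X, MvPolynomial.aeval_C, WittVector.zero_coeff,
      zero_pow hp.out.ne_zero, zero_add] at h
    have e : (0 : WittVector p ℤ).coeff = (0 : ℕ → ℤ) := funext fun i => WittVector.zero_coeff p ℤ i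
    rw [e] at h
    exact (mul_eq_zero.mp h.symm).resolve_left (by simpa using hp.out.ne_zero)
  have h0 : MvPolynomial.aeval (0 : ℕ → S) (WittVector.frobeniusPolyAux p n) = 0 := by
    have := MvPolynomial.comp_aeval_apply (φ := (Int.castRingHom S).toIntAlgHom) (f := (0 : ℕ → ℤ))
      (WittVector.frobeniusPolyAux p n)
    rw [hz, map_zero] at this
    rw [this]
    congr 2
    ext i
    simp
  simpa [h0] using aeval_sub_zero_mem I hx (WittVector.frobeniusPolyAux p n)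

theorem coeff_frobenius_eq (x : WittVector p S) (n : ℕ) :
    (WittVector.frobenius x).coeff n =
      x.coeff n ^ p + (p : S) * MvPolynomial.aeval x.coeff (WittVector.frobeniusPolyAux p n) := by
  rw [WittVector.coeff_frobenius, WittVector.frobeniusPoly]
  simp

theorem frobenius_iterate_coeff_sub_mem (x : WittVector p S) (m n : ℕ) :
    (WittVector.frobenius^[m] x).coeff n - x.coeff n ^ p ^ m ∈ Ideal.span {(p : S)} := by
  induction m with
  | zero => simp
  | succ m ih =>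
    rw [Function.iterate_succ_apply', coeff_frobenius_eq, pow_succ p, pow_mul,
      add_sub_right_comm]
    refine add_mem ?_ (Ideal.mul_mem_right _ _ (Ideal.mem_span_singleton_self _))
    obtain ⟨c, hc⟩ := (sub_dvd_pow_sub_pow ((WittVector.frobenius^[m] x).coeff n) (x.coeff n ^ p ^ m) p)
    rw [hc]
    exact Ideal.mul_mem_right _ _ ih

theorem frobenius_coeff_mem {k : ℕ} (hk : 1 ≤ k) {x : WittVector p S}
    (hx : ∀ n, x.coeff n ∈ Ideal.span {(p : S) ^ k}) (n : ℕ) :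
    (WittVector.frobenius x).coeff n ∈ Ideal.span {(p : S) ^ (k + 1)} := by
  rw [coeff_frobenius_eq]
  refine add_mem ?_ ?_
  · have h := Ideal.pow_mem_pow (hx n) p
    rw [Ideal.span_singleton_pow, ← pow_mul] at h
    refine Ideal.span_singleton_le_span_singleton.mpr (pow_dvd_pow _ ?_) h
    calc k + 1 ≤ k * 2 := by omega
      _ ≤ k * p := Nat.mul_le_mul_left _ hp.out.two_le
  · obtain ⟨c, hc⟩ := Ideal.mem_span_singleton'.mp (aeval_frobeniusPolyAux_mem (p := p) _ hx n)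
    rw [← hc, mul_left_comm, ← pow_succ']
    exact Ideal.mul_mem_left _ _ (Ideal.mem_span_singleton_self _)

/-- `frobenius` is nilpotent on `W(𝔞)` when `p` is nilpotent and `𝔞` is nil of bounded index. -/
theorem exists_iterate_frobenius_eq_zero {R : Type u} [CommRing R] (φ : S →+* R) (hpn : IsNilpotent (p : S))
    (N : ℕ) (hN : ∀ a : S, φ a = 0 → a ^ N = 0) :
    ∃ M, ∀ x ∈ RingHom.ker (WittVector.map (p := p) φ), (⇑(WittVector.frobenius : WittVector p S →+* WittVector p S))^[M] x = 0 := by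
  obtain ⟨k, hk⟩ := hpn
  refine ⟨k + N, fun x hx => WittVector.ext fun n => ?_⟩
  have hxn : ∀ n, x.coeff n ^ p ^ N = 0 := fun n => by
    have : φ (x.coeff n) = 0 := by
      rw [← WittVector.map_coeff, RingHom.mem_ker.mp hx, WittVector.zero_coeff]
    exact pow_eq_zero_of_le (Nat.lt_pow_self hp.out.one_lt).le (hN _ this)
  have : ∀ j n, (WittVector.frobenius^[j + N] x).coeff n ∈ Ideal.span {(p : S) ^ (j + 1)} := by
    intro j
    induction j with
    | zero => exact fun n => by simpa [hxn] using frobenius_iterate_coeff_sub_mem x N n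
    | succ j ih =>
      intro n
      rw [show j + 1 + N = (j + N) + 1 by omega, Function.iterate_succ_apply']
      exact frobenius_coeff_mem (Nat.le_add_left 1 j) ih n
  have h := this k n
  rw [pow_succ, hk, zero_mul, Ideal.span_singleton_eq_bot.mpr rfl, Ideal.mem_bot] at h
  rw [h, WittVector.zero_coeff]

section Linear

variable {A : Type u} [CommRing A] {σ : A →+* A} {P₁ : Type v} [AddCommGroup P₁] [Module A P₁]
  {P₂ : Type w} [AddCommGroup P₂] [Module A P₂] {ι : Type z}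
  (b b' : Module.Basis ι A P₁) (F₁ : P₁ →ₛₗ[σ] P₁) (F₂ : P₂ →ₛₗ[σ] P₂) (hb : ∀ i, b' i = F₁ (b i))

/-- `F₂ ∘ δ ∘ F₁⁻¹`. -/
noncomputable def tw (δ : P₁ →ₗ[A] P₂) : P₁ →ₗ[A] P₂ := b'.constr A fun i => F₂ (δ (b i))

theorem tw_basis (δ : P₁ →ₗ[A] P₂) (i : ι) : tw b b' F₂ δ (b' i) = F₂ (δ (b i)) :=
  b'.constr_basis A _ i

theorem tw_add (δ δ' : P₁ →ₗ[A] P₂) : tw b b' F₂ (δ + δ') = tw b b' F₂ δ + tw b b' F₂ δ' :=
  b'.ext fun i => by simp [tw_basis]

theorem tw_sub (δ δ' : P₁ →ₗ[A] P₂) : tw b b' F₂ (δ - δ') = tw b b' F₂ δ - tw b b' F₂ δ' :=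
  b'.ext fun i => by simp [tw_basis]

include hb in
theorem tw_eq_iff (α : P₁ →ₗ[A] P₂) : tw b b' F₂ α = α ↔ ∀ x, F₂ (α x) = α (F₁ x) := by
  refine ⟨fun h x => ?_, fun h => b'.ext fun i => by rw [tw_basis, h, hb]⟩
  have key : F₂.comp α = α.comp F₁ := b.ext fun i => by
    simp only [LinearMap.comp_apply]
    conv_rhs => rw [← hb i, ← h, tw_basis]
  exact LinearMap.congr_fun key x

theorem forall_mem (N : Submodule A P₂) (δ : P₁ →ₗ[A] P₂) (h : ∀ i, δ (b' i) ∈ N) (x : P₁) : δ x ∈ N := by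
  have : ⊤ ≤ N.comap δ := by
    rw [← b'.span_eq, Submodule.span_le]
    rintro _ ⟨i, rfl⟩
    exact h i
  exact this trivial

theorem tw_mem {I J : Ideal A} (hIJ : ∀ a ∈ I, σ a ∈ J) {δ : P₁ →ₗ[A] P₂}
    (h : ∀ x, δ x ∈ I • (⊤ : Submodule A P₂)) (x : P₁) :
    tw b b' F₂ δ x ∈ J • (⊤ : Submodule A P₂) := by
  refine forall_mem b' _ _ (fun i => ?_) x
  rw [tw_basis]
  refine Submodule.smul_induction_on (h (b i)) (fun r hr y _ => ?_) (fun a c ha hc => ?_)
  · rw [F₂.map_smulₛₗ]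
    exact Submodule.smul_mem_smul (hIJ r hr) trivial
  · rw [map_add]
    exact add_mem ha hc

variable (σ) in
/-- Iterates of `σ`. -/
def iter : ℕ → A →+* A
  | 0 => RingHom.id A
  | n + 1 => (iter n).comp σ

theorem iter_apply (n : ℕ) (a : A) : iter σ n a = σ^[n] a := by
  induction n generalizing a with
  | zero => rfl
  | succ n ih => rw [iter, RingHom.comp_apply, ih, Function.iterate_succ_apply]

theorem exists_sub_tw_eq {𝔠 : Ideal A} (h𝔠 : ∀ a ∈ 𝔠, σ a ∈ 𝔠) (j : ℕ) (δ₀ : P₁ →ₗ[A] P₂)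
    (h : ∀ x, δ₀ x ∈ (𝔠 ⊓ RingHom.ker (iter σ j)) • (⊤ : Submodule A P₂)) :
    ∃ δ : P₁ →ₗ[A] P₂, (∀ x, δ x ∈ 𝔠 • (⊤ : Submodule A P₂)) ∧ δ - tw b b' F₂ δ = δ₀ := by
  induction j generalizing δ₀ with
  | zero =>
    refine ⟨0, fun x => zero_mem _, ?_⟩
    have h0 : δ₀ = 0 := by
      ext x
      have hx := Submodule.smul_mono (inf_le_right : 𝔠 ⊓ RingHom.ker (iter σ 0) ≤ _) le_rfl (h x)
      have hk : RingHom.ker (iter σ 0) = ⊥ := by
        ext a
        simp [iter]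
      rw [hk, Submodule.bot_smul, Submodule.mem_bot] at hx
      simpa using hx
    rw [h0, zero_sub, neg_eq_zero]
    exact b'.ext fun i => by simp [tw_basis]
  | succ j ih =>
    obtain ⟨δ, hδ, he⟩ := ih (tw b b' F₂ δ₀) fun x =>
      tw_mem b b' F₂ (I := 𝔠 ⊓ RingHom.ker (iter σ (j + 1))) (J := 𝔠 ⊓ RingHom.ker (iter σ j)) (fun a ha => ⟨h𝔠 a ha.1, ha.2⟩) h x
    refine ⟨δ₀ + δ, fun x => add_mem (Submodule.smul_mono inf_le_left le_rfl (h x)) (hδ x), ?_⟩
    rw [tw_add, add_sub_add_comm, he]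
    exact sub_add_cancel δ₀ _

theorem eq_zero_of_tw_eq (j : ℕ) {δ : P₁ →ₗ[A] P₂} (he : tw b b' F₂ δ = δ)
    (h : ∀ x, δ x ∈ RingHom.ker (iter σ j) • (⊤ : Submodule A P₂)) : δ = 0 := by
  induction j with
  | zero =>
    ext x
    have hk : RingHom.ker (iter σ 0) = ⊥ := by
      ext a
      simp [iter]
    simpa [hk] using h x
  | succ j ih =>
    refine ih fun x => ?_
    rw [← he]
    exact tw_mem b b' F₂ (fun a ha => ha) h x

include hb in
theorem exists_lift {𝔠 : Ideal A} (h𝔠 : ∀ a ∈ 𝔠, σ a ∈ 𝔠) {M : ℕ} (hM : ∀ a ∈ 𝔠, σ^[M] a = 0)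
    (α₀ : P₁ →ₗ[A] P₂) (hα₀ : ∀ x, F₂ (α₀ x) - α₀ (F₁ x) ∈ 𝔠 • (⊤ : Submodule A P₂)) :
    ∃ α : P₁ →ₗ[A] P₂, (∀ x, α x - α₀ x ∈ 𝔠 • (⊤ : Submodule A P₂)) ∧ ∀ x, F₂ (α x) = α (F₁ x) := by
  have hle : 𝔠 ≤ 𝔠 ⊓ RingHom.ker (iter σ M) :=
    le_inf le_rfl fun a ha => by rw [RingHom.mem_ker, iter_apply]; exact hM a ha
  obtain ⟨δ, hδ, he⟩ := exists_sub_tw_eq b b' F₂ h𝔠 M (tw b b' F₂ α₀ - α₀) fun x => by
    refine Submodule.smul_mono hle le_rfl (forall_mem b' _ _ (fun i => ?_) x)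
    rw [LinearMap.sub_apply, tw_basis, hb]
    exact hα₀ (b i)
  refine ⟨α₀ + δ, fun x => by simpa using hδ x, (tw_eq_iff b b' F₁ F₂ hb _).mp ?_⟩
  rw [tw_add, ← sub_eq_zero, add_sub_add_comm, ← he]
  abel

end Linear

end Groth.Agent.H27DispLift
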