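import Groth.Agent.H27Disp.Rigid
import Mathlib

/-!
# Homomorphisms of displays along a nilpotent thickening
-/

set_option autoImplicit false
set_option linter.style.haveILetI false

namespace Groth.Agent.H27Disp

open WittVector Dieu

universe u v w

section General

variable {A : Type u} {B : Type w} [CommRing A] [CommRing B] {g : A →+* B}
variable {M : Type v} [AddCommGroup M] [Module A M]

theorem bc_tmul_surjective (hg : Function.Surjective g) (z : BC g M) : ∃ x, BC.tmul g 1 x = z := by
  induction z using BC.induction_on g with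
  | zero => exact ⟨0, BC.tmul_zero g 1⟩
  | tmul b x =>
    obtain ⟨a, rfl⟩ := hg b
    exact ⟨a • x, (BC.tmul_apply_eq g a x).symm⟩
  | add z₁ z₂ h₁ h₂ =>
    obtain ⟨x, rfl⟩ := h₁
    obtain ⟨y, rfl⟩ := h₂
    exact ⟨x + y, BC.tmul_add g 1 x y⟩

theorem bc_tmul_eq_zero (hg : Function.Surjective g) {z : M} (hz : BC.tmul g 1 z = 0) :
    z ∈ (RingHom.ker g) • (⊤ : Submodule A M) := by
  let ψ : Res g →ₗ[A] A ⧸ RingHom.ker g :=
    { toFun := fun t => (RingHom.quotientKerEquivOfSurjective hg).symm t.val
      map_add' := fun s t => by rw [Res.val_add, map_add]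
      map_smul' := fun a t => by
        rw [Res.val_smul, map_mul, RingHom.id_apply, Algebra.smul_def]
        congr 1
        rw [RingEquiv.symm_apply_eq]
        rfl }
  have h := congrArg (fun y => TensorProduct.quotTensorEquivQuotSMul M (RingHom.ker g) (ψ.rTensor M y)) hz
  have h1 : ψ (Res.mk g 1) = Ideal.Quotient.mk (RingHom.ker g) 1 := by
    change (RingHom.quotientKerEquivOfSurjective hg).symm 1 = _
    rw [map_one, map_one]
  simp only [map_zero, BC.tmul] at h
  rw [LinearMap.rTensor_tmul, h1, TensorProduct.quotTensorEquivQuotSMul_mk_tmul, one_smul] at h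
  exact (Submodule.Quotient.mk_eq_zero _).mp h

end General

variable {p : ℕ} [hp : Fact p.Prime] {S R : Type u} [CommRing S] [CommRing R] (f : S →+* R)

/-- the chain `𝔞 · (𝔞 + (p))^m` -/
def chain (m : ℕ) : Ideal S := RingHom.ker f * (RingHom.ker f ⊔ Ideal.span {(p : S)}) ^ m

theorem chain_sq_le (m : ℕ) : chain (p := p) f m * chain (p := p) f m ≤ chain (p := p) f (m + 1) := by
  have e : chain (p := p) f (m + 1) = chain (p := p) f m * (RingHom.ker f ⊔ Ideal.span {(p : S)}) := by
    rw [chain, chain, pow_succ, mul_assoc]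
  have hle : chain (p := p) f m ≤ RingHom.ker f :=
    Ideal.mul_le.mpr fun x hx y _ => Ideal.mul_mem_right y _ hx
  rw [e]
  exact Ideal.mul_mono le_rfl (hle.trans le_sup_left)

theorem natCast_mul_mem_chain (m : ℕ) {a : S} (ha : a ∈ chain (p := p) f m) :
    (p : S) * a ∈ chain (p := p) f (m + 1) := by
  rw [chain, pow_succ, ← mul_assoc, mul_comm (p : S) a]
  exact Ideal.mul_mem_mul ha (Ideal.mem_sup_right (Ideal.mem_span_singleton_self _))

theorem exists_chain_eq_bot (hp' : IsNilpotent (p : S)) (hker : IsNilpotent (RingHom.ker f)) :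
    ∃ M, chain (p := p) f M = ⊥ := by
  obtain ⟨a, ha⟩ := hp'
  obtain ⟨b, hb⟩ := hker
  refine ⟨b + a, eq_bot_iff.mpr ?_⟩
  refine le_trans (Ideal.mul_le.mpr fun x _ y hy => Ideal.mul_mem_left _ x hy :
    chain (p := p) f (b + a) ≤ (RingHom.ker f ⊔ Ideal.span {(p : S)}) ^ (b + a)) ?_
  refine Ideal.sup_pow_add_le_pow_sup_pow.trans ?_
  rw [hb, Ideal.span_singleton_pow, ha, Ideal.zero_eq_bot, Ideal.span_singleton_eq_bot.mpr rfl, sup_bot_eq]

theorem chain_step (m : ℕ) : (∀ a ∈ (chain (p := p) f m).map (Ideal.Quotient.mk (chain (p := p) f (m + 1))),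
      ∀ b ∈ (chain (p := p) f m).map (Ideal.Quotient.mk (chain (p := p) f (m + 1))), a * b = 0) ∧
    ∀ a ∈ (chain (p := p) f m).map (Ideal.Quotient.mk (chain (p := p) f (m + 1))),
      (p : S ⧸ chain (p := p) f (m + 1)) * a = 0 := by
  refine ⟨fun a ha b hb => ?_, fun a ha => ?_⟩
  · obtain ⟨a, ha', rfl⟩ := (Ideal.mem_map_iff_of_surjective _ Ideal.Quotient.mk_surjective).mp ha
    obtain ⟨b, hb', rfl⟩ := (Ideal.mem_map_iff_of_surjective _ Ideal.Quotient.mk_surjective).mp hb
    rw [← map_mul, Ideal.Quotient.eq_zero_iff_mem]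
    exact chain_sq_le f m (Ideal.mul_mem_mul ha' hb')
  · obtain ⟨a, ha', rfl⟩ := (Ideal.mem_map_iff_of_surjective _ Ideal.Quotient.mk_surjective).mp ha
    rw [← map_natCast (Ideal.Quotient.mk (chain (p := p) f (m + 1))), ← map_mul, Ideal.Quotient.eq_zero_iff_mem]
    exact natCast_mul_mem_chain f m ha'

theorem mem_ker_map {x : WittVector p S} : x ∈ RingHom.ker (WittVector.map f) ↔ ∀ n, x.coeff n ∈ RingHom.ker f := by
  simp only [RingHom.mem_ker, WittVector.ext_iff, map_coeff, zero_coeff]

/-- a power of `p` kills the Witt vectors over a nilpotent ideal -/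
theorem exists_pow_kill (hp' : IsNilpotent (p : S)) (hker : IsNilpotent (RingHom.ker f)) :
    ∃ N : ℕ, ∀ a ∈ RingHom.ker (WittVector.map f : WittVector p S →+* WittVector p R),
      (p : WittVector p S) ^ N * a = 0 := by
  obtain ⟨M, hM⟩ := exists_chain_eq_bot f hp' hker
  refine ⟨M, fun a ha => ?_⟩
  have key : ∀ m, ∀ n, ((p : WittVector p S) ^ m * a).coeff n ∈ chain (p := p) f m := by
    intro m
    induction m with
    | zero => intro n; simpa [chain] using (mem_ker_map f).mp ha n
    | succ m ih =>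
      intro n
      obtain ⟨h2, hpI⟩ := chain_step (p := p) f m
      have hmem : WittVector.map (Ideal.Quotient.mk (chain (p := p) f (m + 1))) ((p : WittVector p S) ^ m * a) ∈
          WI ((chain (p := p) f m).map (Ideal.Quotient.mk (chain (p := p) f (m + 1)))) :=
        (mem_WI _).mpr fun l => by rw [map_coeff]; exact Ideal.mem_map_of_mem _ (ih l)
      have h := congrArg (fun x => x.coeff n) (natCast_p_mul_eq_zero h2 hpI hmem)
      rw [← map_natCast (WittVector.map (Ideal.Quotient.mk (chain (p := p) f (m + 1)))) p, ← map_mul, ← mul_assoc,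
        ← pow_succ'] at h
      simp only [map_coeff, zero_coeff] at h
      exact Ideal.Quotient.eq_zero_iff_mem.mp h
  ext n
  simpa [hM] using key M n

variable {P P' : Type v} [AddCommGroup P] [Module (WittVector p S) P] [AddCommGroup P'] [Module (WittVector p S) P']

theorem exists_coordinates (D' : W4c1extbt610.Display3n p S P') :
    ∃ (n : ℕ) (i : P' →ₗ[WittVector p S] (Fin n → WittVector p S)) (v : Fin n → P'),
      ∀ z, z = ∑ j, i z j • v j := by
  classical
  haveI := D'.finite
  haveI := D'.projective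
  obtain ⟨n, g, hg⟩ := Module.Finite.exists_fin' (WittVector p S) P'
  obtain ⟨i, hi⟩ := Module.projective_lifting_property g LinearMap.id hg
  refine ⟨n, i, fun j => g (Pi.single j 1), fun z => ?_⟩
  have hz : g (i z) = z := LinearMap.congr_fun hi z
  have hsum : i z = ∑ j, i z j • Pi.single j (1 : WittVector p S) := by
    ext j : 1
    simp [Finset.sum_apply, Pi.single_apply]
  conv_lhs => rw [← hz, hsum, map_sum]
  simp only [map_smul]

/-- rigidity along a nilpotent thickening -/
theorem eq_zero_of_map_eq_zero (hf : Function.Surjective f) (hp' : IsNilpotent (p : S))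
    (hker : IsNilpotent (RingHom.ker f)) (D : W4c1extbt610.Display3n p S P) (hD : Dieu.IsDisplay D)
    (D' : W4c1extbt610.Display3n p S P') {ψ : P →ₗ[WittVector p S] P'} (hψ : W4c1extbt610.IsHom D D' ψ)
    (h : ∀ x, BC.tmul (WittVector.map f : WittVector p S →+* WittVector p R) 1 (ψ x) = 0) : ψ = 0 := by
  obtain ⟨n, i, v, hv⟩ := exists_coordinates D'
  obtain ⟨M, hM⟩ := exists_chain_eq_bot f hp' hker
  have key : ∀ m, ∀ x j l, (i (ψ x) j).coeff l ∈ chain (p := p) f m := by
    intro m
    induction m with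
    | zero =>
      intro x j l
      have hx := bc_tmul_eq_zero (WittVector.map_surjective f hf) (h x)
      have hij : i (ψ x) j ∈ RingHom.ker (WittVector.map f : WittVector p S →+* WittVector p R) := by
        refine Submodule.smul_induction_on (p := fun z => i z j ∈ RingHom.ker
          (WittVector.map f : WittVector p S →+* WittVector p R)) hx (fun w hw z _ => ?_) (fun a b ha hb => ?_)
        · simpa using Ideal.mul_mem_right (i z j) _ hw
        · simpa using add_mem ha hb
      simpa [chain] using (mem_ker_map f).mp hij l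
    | succ m ih =>
      intro x j l
      obtain ⟨h2, hpI⟩ := chain_step (p := p) f m
      have h0 := step (Ideal.Quotient.mk (chain (p := p) f (m + 1))) D hD D' hψ i v hv _ h2 hpI
        (fun y j' => (mem_WI _).mpr fun l' => by
          rw [map_coeff]
          exact Ideal.mem_map_of_mem _ (ih y j' l')) x j
      have := congrArg (fun w => w.coeff l) h0
      simpa [map_coeff, Ideal.Quotient.eq_zero_iff_mem] using this
  ext x
  rw [hv (ψ x), LinearMap.zero_apply]
  refine Finset.sum_eq_zero fun j _ => ?_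
  suffices i (ψ x) j = 0 by rw [this, zero_smul]
  ext l
  simpa [hM] using key M x j l

theorem isHom_sub (D : W4c1extbt610.Display3n p S P) (D' : W4c1extbt610.Display3n p S P')
    {ψ χ : P →ₗ[WittVector p S] P'} (hψ : W4c1extbt610.IsHom D D' ψ) (hχ : W4c1extbt610.IsHom D D' χ) :
    W4c1extbt610.IsHom D D' (ψ - χ) := by
  refine ⟨fun q hq => sub_mem (hψ.mapsTo q hq) (hχ.mapsTo q hq), fun x => ?_, fun q => ?_⟩
  · rw [LinearMap.sub_apply, LinearMap.sub_apply, map_sub, hψ.comm_F, hχ.comm_F]
  · rw [LinearMap.sub_apply, hψ.comm_Vinv, hχ.comm_Vinv, ← map_sub]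
    rfl

theorem tmul_mem_Q {D : W4c1extbt610.Display3n p S P}
    {DR : W4c1extbt610.Display3n p R (BC (WittVector.map f : WittVector p S →+* WittVector p R) P)}
    (hDR : IsDispBaseChange f D DR) {q : P} (hq : q ∈ D.Q) :
    BC.tmul (WittVector.map f : WittVector p S →+* WittVector p R) 1 q ∈ DR.Q := by
  rw [hDR.Q_eq, LinearMap.mem_ker, bcQuotMap_tmul, Submodule.mkQ_apply, (Submodule.Quotient.mk_eq_zero _).mpr hq,
    BC.tmul_zero]

/-- a power of `p` carries the preimage of `Q_R` into `Q` -/
theorem pow_smul_mem_Q (hf : Function.Surjective f) (D' : W4c1extbt610.Display3n p S P')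
    {DR' : W4c1extbt610.Display3n p R (BC (WittVector.map f : WittVector p S →+* WittVector p R) P')}
    (hDR' : IsDispBaseChange f D' DR') {N : ℕ}
    (hN : ∀ a ∈ RingHom.ker (WittVector.map f : WittVector p S →+* WittVector p R), (p : WittVector p S) ^ N * a = 0)
    {z : P'} (hz : BC.tmul (WittVector.map f : WittVector p S →+* WittVector p R) 1 z ∈ DR'.Q) :
    (p : WittVector p S) ^ N • z ∈ D'.Q := by
  rw [hDR'.Q_eq, LinearMap.mem_ker, bcQuotMap_tmul, map_one] at hz
  have hsurj : Function.Surjective ((WittVector.constantCoeff : WittVector p R →+* R).comp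
      (WittVector.map f : WittVector p S →+* WittVector p R)) := fun r => by
    obtain ⟨s, rfl⟩ := hf r
    exact ⟨teichmuller p s, by simp⟩
  have h := bc_tmul_eq_zero hsurj hz
  rw [← Submodule.Quotient.mk_eq_zero, Submodule.Quotient.mk_smul]
  refine Submodule.smul_induction_on (p := fun y => (p : WittVector p S) ^ N • y = 0) h (fun w hw y _ => ?_)
    (fun a b ha hb => by rw [smul_add, ha, hb, add_zero])
  obtain ⟨y, rfl⟩ := Submodule.Quotient.mk_surjective _ y
  rw [smul_smul, H27Witt.eq_teichmuller_add_verschiebung w, mul_add, hN _ ((mem_ker_map f).mpr fun l => ?_), zero_add,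
    mul_comm, mul_smul, ← Submodule.Quotient.mk_smul, ← Submodule.Quotient.mk_smul, Submodule.Quotient.mk_eq_zero]
  · exact D'.IV_smul_le (Submodule.smul_mem_smul (W4c1extbt610.verschiebung_mem_IV p S _) Submodule.mem_top)
  · cases l with
    | zero => simpa [RingHom.mem_ker] using hw
    | succ l => simp [teichmuller_coeff_pos _ _ _ l.succ_pos]

/-- homomorphisms lift up to powers of `p` -/
theorem exists_lift_pow (hf : Function.Surjective f) (hp' : IsNilpotent (p : S))
    (hker : IsNilpotent (RingHom.ker f)) (D : W4c1extbt610.Display3n p S P) (D' : W4c1extbt610.Display3n p S P')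
    (DR : W4c1extbt610.Display3n p R (BC (WittVector.map f : WittVector p S →+* WittVector p R) P))
    (hDR : IsDispBaseChange f D DR)
    (DR' : W4c1extbt610.Display3n p R (BC (WittVector.map f : WittVector p S →+* WittVector p R) P'))
    (hDR' : IsDispBaseChange f D' DR')
    (χ : BC (WittVector.map f : WittVector p S →+* WittVector p R) P →ₗ[WittVector p R]
      BC (WittVector.map f : WittVector p S →+* WittVector p R) P') (hχ : W4c1extbt610.IsHom DR DR' χ) :
    ∃ (n : ℕ) (ψ : P →ₗ[WittVector p S] P'), W4c1extbt610.IsHom D D' ψ ∧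
      BC.map (WittVector.map f : WittVector p S →+* WittVector p R) ψ = ((p : WittVector p R) ^ n) • χ := by
  classical
  have hgs : Function.Surjective (WittVector.map f : WittVector p S →+* WittVector p R) := WittVector.map_surjective f hf
  obtain ⟨N, hN⟩ := exists_pow_kill f hp' hker
  have hkill : ∀ {z : P'}, BC.tmul (WittVector.map f : WittVector p S →+* WittVector p R) 1 z = 0 → (p : WittVector p S) ^ N • z = 0 := fun {z} hz => by
    refine Submodule.smul_induction_on (p := fun y => (p : WittVector p S) ^ N • y = 0) (bc_tmul_eq_zero hgs hz)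
      (fun w hw y _ => by rw [smul_smul, hN w hw, zero_smul]) (fun a b ha hb => by rw [smul_add, ha, hb, add_zero])
  have hpow : ∀ (m : ℕ) (z : P'), BC.tmul (WittVector.map f : WittVector p S →+* WittVector p R) 1 ((p : WittVector p S) ^ m • z) = (p : WittVector p R) ^ m • BC.tmul (WittVector.map f : WittVector p S →+* WittVector p R) 1 z :=
    fun m z => by rw [← BC.tmul_apply_eq, map_pow, map_natCast, BC.smul_tmul, mul_one]
  haveI := D.finite
  haveI := D.projective
  obtain ⟨n, e, he⟩ := Module.Finite.exists_fin' (WittVector p S) P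
  obtain ⟨s, hs⟩ := Module.projective_lifting_property e LinearMap.id he
  choose y hy using fun j : Fin n => bc_tmul_surjective hgs (χ (BC.tmul (WittVector.map f : WittVector p S →+* WittVector p R) 1 (e (Pi.single j 1))))
  let ψ₀ : P →ₗ[WittVector p S] P' := (Fintype.linearCombination (WittVector p S) y) ∘ₗ s
  have hψ₀ : ∀ x, BC.tmul (WittVector.map f : WittVector p S →+* WittVector p R) 1 (ψ₀ x) = χ (BC.tmul (WittVector.map f : WittVector p S →+* WittVector p R) 1 x) := by
    have hsx : ∀ x, e (s x) = x := fun x => LinearMap.congr_fun hs x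
    have hl : ∀ u : Fin n → WittVector p S, BC.tmul (WittVector.map f : WittVector p S →+* WittVector p R) 1 (Fintype.linearCombination (WittVector p S) y u) =
        χ (BC.tmul (WittVector.map f : WittVector p S →+* WittVector p R) 1 (e u)) := by
      intro u
      conv_rhs => rw [pi_eq_sum_univ' u, map_sum]
      simp only [← BC.ι_apply, map_sum, map_smul, LinearMap.map_smulₛₗ, Fintype.linearCombination_apply]
      simp only [BC.ι_apply, hy, RingHom.id_apply]
    intro x
    conv_rhs => rw [← hsx x]
    exact hl (s x)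
  have hQ : ∀ q ∈ D.Q, (p : WittVector p S) ^ N • ψ₀ q ∈ D'.Q := fun q hq =>
    pow_smul_mem_Q f hf D' hDR' hN (by rw [hψ₀]; exact hχ.mapsTo _ (tmul_mem_Q f hDR hq))
  have hσ : ∀ m : ℕ, WittVector.frobenius ((p : WittVector p S) ^ m) = (p : WittVector p S) ^ m := fun m => by
    rw [map_pow, map_natCast]
  refine ⟨N + N, (p : WittVector p S) ^ (N + N) • ψ₀, ⟨fun q hq => ?_, fun x => ?_, fun q => ?_⟩, ?_⟩
  · rw [LinearMap.smul_apply, pow_add, mul_smul]
    exact Submodule.smul_mem _ _ (hQ q hq)
  · have h1 : BC.tmul (WittVector.map f : WittVector p S →+* WittVector p R) 1 (ψ₀ (D.F x) - D'.F (ψ₀ x)) = 0 := by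
      have e1 : DR'.F (BC.tmul (WittVector.map f : WittVector p S →+* WittVector p R) 1 (ψ₀ x)) = BC.tmul (WittVector.map f : WittVector p S →+* WittVector p R) 1 (D'.F (ψ₀ x)) := by
        rw [hDR'.F_tmul, map_one]
      have e2 : DR.F (BC.tmul (WittVector.map f : WittVector p S →+* WittVector p R) 1 x) = BC.tmul (WittVector.map f : WittVector p S →+* WittVector p R) 1 (D.F x) := by rw [hDR.F_tmul, map_one]
      rw [← BC.ι_apply, map_sub, BC.ι_apply, BC.ι_apply, hψ₀, ← e1, hψ₀, ← e2, hχ.comm_F, sub_self]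
    have h2 := hkill h1
    rw [smul_sub, sub_eq_zero] at h2
    rw [LinearMap.smul_apply, LinearMap.smul_apply, LinearMap.map_smulₛₗ, hσ, pow_add, mul_smul, h2, ← mul_smul]
  · obtain ⟨q, hq⟩ := q
    let q' : D'.Q := ⟨_, hQ q hq⟩
    have h1 : BC.tmul (WittVector.map f : WittVector p S →+* WittVector p R) 1 ((p : WittVector p S) ^ N • ψ₀ (D.Vinv ⟨q, hq⟩) - D'.Vinv q') = 0 := by
      have e1 := hDR'.Vinv_tmul 1 q' (tmul_mem_Q f hDR' q'.2)
      have e2 := hDR.Vinv_tmul 1 ⟨q, hq⟩ (tmul_mem_Q f hDR hq)
      rw [map_one] at e1 e2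
      rw [← BC.ι_apply, map_sub, BC.ι_apply, BC.ι_apply, hpow, hψ₀, ← e2, hχ.comm_Vinv, ← e1]
      have hmem : BC.tmul (WittVector.map f : WittVector p S →+* WittVector p R) 1 ((q' : P')) = (p : WittVector p R) ^ N • χ (BC.tmul (WittVector.map f : WittVector p S →+* WittVector p R) 1 q) := by
        rw [hpow, hψ₀]
      have : (⟨_, tmul_mem_Q f hDR' q'.2⟩ : DR'.Q) =
          (p : WittVector p R) ^ N • ⟨χ (BC.tmul (WittVector.map f : WittVector p S →+* WittVector p R) 1 q), hχ.mapsTo _ (tmul_mem_Q f hDR hq)⟩ := Subtype.ext hmem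
      rw [this, LinearMap.map_smulₛₗ, map_pow, map_natCast, sub_self]
    have h2 := hkill h1
    rw [smul_sub, sub_eq_zero, ← mul_smul, ← pow_add] at h2
    rw [LinearMap.smul_apply, h2]
    have h3 : (⟨((p : WittVector p S) ^ (N + N) • ψ₀) q, by
        rw [LinearMap.smul_apply, pow_add, mul_smul]; exact Submodule.smul_mem _ _ (hQ q hq)⟩ : D'.Q) =
        (p : WittVector p S) ^ N • q' := Subtype.ext (by
      change (p : WittVector p S) ^ (N + N) • ψ₀ q = (p : WittVector p S) ^ N • ((p : WittVector p S) ^ N • ψ₀ q)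
      rw [← mul_smul, ← pow_add])
    rw [h3, LinearMap.map_smulₛₗ, hσ]
  · refine BC.ext (WittVector.map f : WittVector p S →+* WittVector p R) fun x => ?_
    rw [BC.map_tmul, LinearMap.smul_apply, LinearMap.smul_apply, hpow, hψ₀]

theorem map_injective_and_exists_lift (hp' : IsNilpotent (p : S)) (hf : Function.Surjective f)
    (hker : IsNilpotent (RingHom.ker f)) (D : W4c1extbt610.Display3n p S P) (hD : Dieu.IsDisplay D)
    (D' : W4c1extbt610.Display3n p S P')
    (DR : W4c1extbt610.Display3n p R (BC (WittVector.map f : WittVector p S →+* WittVector p R) P))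
    (hDR : IsDispBaseChange f D DR)
    (DR' : W4c1extbt610.Display3n p R (BC (WittVector.map f : WittVector p S →+* WittVector p R) P'))
    (hDR' : IsDispBaseChange f D' DR') :
    (∀ ψ χ : P →ₗ[WittVector p S] P', W4c1extbt610.IsHom D D' ψ → W4c1extbt610.IsHom D D' χ →
        BC.map (WittVector.map f : WittVector p S →+* WittVector p R) ψ =
          BC.map (WittVector.map f : WittVector p S →+* WittVector p R) χ → ψ = χ) ∧
      ∀ χ : BC (WittVector.map f : WittVector p S →+* WittVector p R) P →ₗ[WittVector p R]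
          BC (WittVector.map f : WittVector p S →+* WittVector p R) P', W4c1extbt610.IsHom DR DR' χ →
        ∃ (n : ℕ) (ψ : P →ₗ[WittVector p S] P'), W4c1extbt610.IsHom D D' ψ ∧
          BC.map (WittVector.map f : WittVector p S →+* WittVector p R) ψ = ((p : WittVector p R) ^ n) • χ := by
  refine ⟨fun ψ χ hψ hχ h => sub_eq_zero.mp (eq_zero_of_map_eq_zero f hf hp' hker D hD D' (isHom_sub D D' hψ hχ)
    fun x => ?_), fun χ hχ => exists_lift_pow f hf hp' hker D D' DR hDR DR' hDR' χ hχ⟩
  have := LinearMap.congr_fun h (BC.tmul _ 1 x)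
  rw [BC.map_tmul, BC.map_tmul] at this
  rw [LinearMap.sub_apply, ← BC.ι_apply, map_sub, BC.ι_apply, BC.ι_apply, this, sub_self]

end Groth.Agent.H27Disp
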