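import Groth.Agent.H27Disp.VSharp

/-! # The matrix criterion for nilpotence -/

set_option autoImplicit false

namespace Groth.Agent.H27Disp

open WittVector Dieu

universe u v w

variable {p : ℕ} [hp : Fact p.Prime] {R : Type u} [CommRing R]

/-- Reduction `W(R) → R/p`. -/
noncomputable def red (p : ℕ) [Fact p.Prime] (R : Type u) [CommRing R] :
    WittVector p R →+* R ⧸ Ideal.span {(p : R)} :=
  (Ideal.Quotient.mk _).comp WittVector.constantCoeff

theorem ker_red : RingHom.ker (red p R) = W4c1extbt610.IV p R ⊔ Ideal.span {(p : WittVector p R)} := by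
  refine le_antisymm (fun x hx => ?_) (sup_le (fun x hx => ?_) ?_)
  · rw [RingHom.mem_ker, red, RingHom.comp_apply, Ideal.Quotient.eq_zero_iff_mem, Ideal.mem_span_singleton'] at hx
    obtain ⟨r, hr⟩ := hx
    have h0 : (x - teichmuller p r * (p : WittVector p R)).coeff 0 = 0 := by
      show WittVector.constantCoeff (x - teichmuller p r * (p : WittVector p R)) = 0
      rw [map_sub, map_mul, map_natCast, ← hr, sub_eq_zero]
      exact congrArg (· * _) (teichmuller_coeff_zero p r).symm
    have hV : ∀ y : WittVector p R, y.coeff 0 = 0 → y ∈ W4c1extbt610.IV p R := fun y hy => by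
      rw [H27Witt.eq_teichmuller_add_verschiebung y, hy, teichmuller_zero, zero_add]
      exact W4c1extbt610.verschiebung_mem_IV p R _
    rw [← sub_add_cancel x (teichmuller p r * (p : WittVector p R))]
    exact Submodule.add_mem_sup (hV _ h0) (Ideal.mul_mem_left _ _ (Ideal.mem_span_singleton_self _))
  · rw [RingHom.mem_ker, red, RingHom.comp_apply,
      show WittVector.constantCoeff x = 0 from coeff_zero_of_mem_IV hx, map_zero]
  · rw [Ideal.span_singleton_le_iff_mem, RingHom.mem_ker, red, RingHom.comp_apply, map_natCast,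
      Ideal.Quotient.eq_zero_iff_mem]
    exact Ideal.mem_span_singleton_self _

/-- The `p`-th power endomorphism of `R/p`. -/
noncomputable def powP (p : ℕ) [Fact p.Prime] (R : Type u) [CommRing R] :
    (R ⧸ Ideal.span {(p : R)}) →+* (R ⧸ Ideal.span {(p : R)}) :=
  RingHom.mk' (powMonoidHom p) fun a b => by
    obtain ⟨r, hr⟩ := exists_add_pow_prime_eq (p := p) Fact.out a b
    have h0 : (p : R ⧸ Ideal.span {(p : R)}) = 0 := by
      rw [← map_natCast (Ideal.Quotient.mk (Ideal.span {(p : R)})), Ideal.Quotient.eq_zero_iff_mem]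
      exact Ideal.mem_span_singleton_self _
    show (a + b) ^ p = a ^ p + b ^ p
    rw [hr, h0, zero_mul, zero_mul, zero_mul, add_zero]

theorem red_frobenius (x : WittVector p R) : red p R (WittVector.frobenius x) = powP p R (red p R x) := by
  show _ = (red p R x) ^ p
  rw [← map_pow, ← sub_eq_zero, ← map_sub, ← RingHom.mem_ker, ker_red]
  exact Submodule.mem_sup_right (frobenius_sub_pow_mem x)

theorem list_prod_eq_rec {ι : Type w} [Fintype ι] [DecidableEq ι]
    (B : Matrix ι ι (R ⧸ Ideal.span {(p : R)})) (n : ℕ) :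
    ((List.range (n + 1)).reverse.map fun i : ℕ => B.map fun x => x ^ p ^ i).prod =
      Nat.rec B (fun _ X => (powP p R).mapMatrix X * B) n := by
  induction n with
  | zero =>
    ext a b
    simp
  | succ n ih =>
    show _ = (powP p R).mapMatrix (Nat.rec B (fun _ X => (powP p R).mapMatrix X * B) n) * B
    rw [← ih, List.range_succ_eq_map, List.reverse_cons, List.map_append, List.prod_append,
      map_list_prod, ← List.map_reverse, List.map_map, List.map_map]
    congr 1
    · congr 1
      refine List.map_congr_left fun i _ => ?_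
      ext a b
      show B a b ^ p ^ (i + 1) = (B a b ^ p ^ i) ^ p
      rw [← pow_mul, pow_succ]
    · ext a b
      simp

variable {P : Type v} [AddCommGroup P] [Module (WittVector p R) P]

/-- Coordinates on `BC g P` for a basis. -/
noncomputable def bcCoord {ι : Type w} (b : Module.Basis ι (WittVector p R) P)
    (g : WittVector p R →+* WittVector p R) (i : ι) : BC g P →ₗ[WittVector p R] WittVector p R :=
  BC.lift g ((semilinearOfRingHom g).comp (b.coord i))

theorem bcCoord_tmul {ι : Type w} (b : Module.Basis ι (WittVector p R) P)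
    (g : WittVector p R →+* WittVector p R) (i : ι) (c : WittVector p R) (x : P) :
    bcCoord b g i (BC.tmul g c x) = c * g (b.repr x i) := BC.lift_tmul _ _ c x

theorem eq_sum_bcCoord {ι : Type w} [Fintype ι] (b : Module.Basis ι (WittVector p R) P)
    (g : WittVector p R →+* WittVector p R) (z : BC g P) :
    z = ∑ i, bcCoord b g i z • BC.tmul g 1 (b i) := by
  induction z using BC.induction_on with
  | zero => simp
  | tmul c x =>
    conv_lhs => rw [BC.tmul_eq_smul_tmul_one, ← b.sum_repr x, ← BC.ι_apply, map_sum, Finset.smul_sum]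
    refine Finset.sum_congr rfl fun i _ => ?_
    rw [bcCoord_tmul, LinearMap.map_smulₛₗ, smul_smul, BC.ι_apply]
  | add x y hx hy =>
    conv_lhs => rw [hx, hy, ← Finset.sum_add_distrib]
    simp only [map_add, add_smul]

theorem isDisplay_iff (hR : IsNilpotent (p : R)) (D : W4c1extbt610.Display3n p R P)
    (L T : Submodule (WittVector p R) P) (hLT : IsCompl L T) (hLQ : L ≤ D.Q)
    {ιT ιL : Type w} [Fintype ιT] [Fintype ιL] [DecidableEq ιT] [DecidableEq ιL]
    (bT : Module.Basis ιT (WittVector p R) T) (bL : Module.Basis ιL (WittVector p R) L)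
    (α β : Matrix (ιT ⊕ ιL) (ιT ⊕ ιL) (WittVector p R)) (hαβ : α * β = 1)
    (hF : ∀ j : ιT, D.F (bT j : P) =
      Finset.univ.sum fun i : ιT ⊕ ιL => α i (Sum.inl j) • Sum.elim (fun a : ιT => (bT a : P)) (fun a : ιL => (bL a : P)) i)
    (hV : ∀ k : ιL, D.Vinv ⟨(bL k : P), hLQ (bL k).2⟩ =
      Finset.univ.sum fun i : ιT ⊕ ιL => α i (Sum.inr k) • Sum.elim (fun a : ιT => (bT a : P)) (fun a : ιL => (bL a : P)) i) :
    Dieu.IsDisplay D ↔
      ∃ N : ℕ, 0 < N ∧
        (((List.range N).reverse.map fun i : ℕ =>
            (Matrix.of fun k l : ιL =>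
                Ideal.Quotient.mk (Ideal.span {(p : R)}) (WittVector.constantCoeff (β (Sum.inr k) (Sum.inr l)))).map
              fun x : R ⧸ Ideal.span {(p : R)} => x ^ p ^ i).prod
          = 0) := by
  classical
  set e : ιT ⊕ ιL → P := Sum.elim (fun a : ιT => (bT a : P)) (fun a : ιL => (bL a : P)) with he
  let b : Module.Basis (ιT ⊕ ιL) (WittVector p R) P :=
    (bT.prod bL).map (T.prodEquivOfIsCompl L hLT.symm)
  have hb : ∀ i, b i = e i := by
    rintro (a | a) <;> simp [b, e]
  obtain ⟨Vs, hVs⟩ := exists_vSharp hR D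
  have hF1 : ∀ x, Vs (D.F x) = (p : WittVector p R) • BC.tmul _ 1 x := fun x => by
    have := hVs.app_smul_F 1 x; rwa [one_smul] at this
  have hV1 : ∀ y : D.Q, Vs (D.Vinv y) = BC.tmul _ 1 (y : P) := fun y => by
    have := hVs.app_smul_Vinv 1 y; rwa [one_smul] at this
  let c : ιT ⊕ ιL → WittVector p R := Sum.elim (fun _ => (p : WittVector p R)) (fun _ => 1)
  let u : ιT ⊕ ιL → P := fun j => ∑ i, α i j • e i
  have hu : ∀ j, Vs (u j) = c j • BC.tmul _ 1 (e j) := by
    rintro (a | a)
    · show Vs (∑ i, α i (Sum.inl a) • e i) = _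
      rw [← hF a, hF1]; rfl
    · show Vs (∑ i, α i (Sum.inr a) • e i) = _
      rw [← hV a, hV1]
      exact (one_smul _ _).symm
  have he' : ∀ k, e k = ∑ j, β j k • u j := fun k => by
    simp only [u, Finset.smul_sum, smul_smul]
    rw [Finset.sum_comm]
    simp only [← Finset.sum_smul]
    have : ∀ i, ∑ j, β j k * α i j = (1 : Matrix (ιT ⊕ ιL) (ιT ⊕ ιL) (WittVector p R)) i k := fun i => by
      rw [← hαβ, Matrix.mul_apply]
      exact Finset.sum_congr rfl fun j _ => mul_comm _ _
    simp [this, Matrix.one_apply]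
  let M : Matrix (ιT ⊕ ιL) (ιT ⊕ ιL) (WittVector p R) := Matrix.of fun j k => β j k * c j
  have hM : ∀ k, Vs (e k) = ∑ j, M j k • BC.tmul _ 1 (e j) := fun k => by
    rw [he' k, map_sum]
    refine Finset.sum_congr rfl fun j _ => ?_
    rw [map_smul, hu, smul_smul]
    rfl
  let σ : WittVector p R →+* WittVector p R := WittVector.frobenius
  let Nn : ℕ → Matrix (ιT ⊕ ιL) (ιT ⊕ ιL) (WittVector p R) := fun n => Nat.rec M (fun _ X => σ.mapMatrix X * M) n
  have hN : ∀ n k, vSharpPow Vs n (e k) = ∑ i, Nn n i k • BC.tmul _ 1 (e i) := by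
    intro n
    induction n with
    | zero =>
      intro k
      rw [vSharpPow_zero_apply, hM, map_sum]
      exact Finset.sum_congr rfl fun j _ => by rw [map_smul, BC.castHom_tmul]; rfl
    | succ n ih =>
      intro k
      rw [vSharpPow_succ_apply, hM]
      simp only [map_sum, map_smul, BC.map_tmul, BC.lift_tmul, one_smul, ih, LinearMap.map_smulₛₗ,
        BC.push_tmul, BC.castHom_tmul, Finset.smul_sum, smul_smul, map_one]
      rw [Finset.sum_comm]
      refine Finset.sum_congr rfl fun i _ => ?_
      rw [← Finset.sum_smul]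
      congr 1
      show _ = (σ.mapMatrix (Nn n) * M) i k
      rw [Matrix.mul_apply]
      exact Finset.sum_congr rfl fun j _ => by rw [one_mul, mul_comm]; rfl
  let X : ℕ → Matrix (ιT ⊕ ιL) (ιT ⊕ ιL) (R ⧸ Ideal.span {(p : R)}) := fun n => (red p R).mapMatrix (Nn n)
  have hXs : ∀ n, X (n + 1) = (powP p R).mapMatrix (X n) * X 0 := fun n => by
    show (red p R).mapMatrix (σ.mapMatrix (Nn n) * M) = _
    rw [map_mul]
    congr 1
    ext a d
    exact red_frobenius _
  have hnil : ∀ n, (∀ x, vSharpPow Vs n x ∈ (W4c1extbt610.IV p R ⊔ Ideal.span {(p : WittVector p R)}) •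
      (⊤ : Submodule (WittVector p R) (BC ((WittVector.frobenius : WittVector p R →+* WittVector p R) ^ (n + 1)) P))) ↔
      X n = 0 := by
    intro n
    rw [← ker_red]
    constructor
    · intro h
      ext i k
      show red p R (Nn n i k) = 0
      have : bcCoord b _ i (vSharpPow Vs n (e k)) ∈ RingHom.ker (red p R) := by
        refine Submodule.smul_induction_on (p := fun z => bcCoord b _ i z ∈ RingHom.ker (red p R)) (h (e k))
          (fun w hw z _ => ?_) (fun z z' hz hz' => ?_)
        · rw [map_smul, smul_eq_mul]; exact Ideal.mul_mem_right _ _ hw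
        · rw [map_add]; exact add_mem hz hz'
      rw [hN, map_sum] at this
      simp only [map_smul, bcCoord_tmul, one_mul, ← hb, Module.Basis.repr_self, Finsupp.single_apply,
        apply_ite ((WittVector.frobenius : WittVector p R →+* WittVector p R) ^ (n + 1)), map_one, map_zero,
        smul_eq_mul, mul_ite, mul_one, mul_zero, Finset.sum_ite_eq', Finset.mem_univ, if_true] at this
      exact this
    · intro h x
      rw [← b.sum_repr x, map_sum]
      refine sum_mem fun k _ => ?_
      rw [map_smul, hb, hN]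
      refine Submodule.smul_mem _ _ (sum_mem fun i _ => Submodule.smul_mem_smul ?_ Submodule.mem_top)
      rw [RingHom.mem_ker]
      exact congrFun (congrFun h i) k
  have hT0 : ∀ n (a : ιT) j, X n (Sum.inl a) j = 0 := by
    intro n
    induction n with
    | zero =>
      intro a j
      show red p R (β (Sum.inl a) j * (p : WittVector p R)) = 0
      rw [← RingHom.mem_ker, ker_red]
      exact Submodule.mem_sup_right (Ideal.mul_mem_left _ _ (Ideal.mem_span_singleton_self _))
    | succ n ih =>
      intro a j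
      rw [hXs, Matrix.mul_apply]
      refine Finset.sum_eq_zero fun l _ => ?_
      show powP p R (X n (Sum.inl a) l) * _ = 0
      rw [ih, map_zero, zero_mul]
  set B : Matrix ιL ιL (R ⧸ Ideal.span {(p : R)}) := Matrix.of fun k l : ιL =>
    Ideal.Quotient.mk (Ideal.span {(p : R)}) (WittVector.constantCoeff (β (Sum.inr k) (Sum.inr l))) with hB
  have hB0 : ∀ k l, X 0 (Sum.inr k) (Sum.inr l) = B k l := fun k l => by
    show red p R (β (Sum.inr k) (Sum.inr l) * 1) = _
    rw [mul_one]; rfl
  let Bn : ℕ → Matrix ιL ιL (R ⧸ Ideal.span {(p : R)}) := fun n => Nat.rec B (fun _ Y => (powP p R).mapMatrix Y * B) n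
  have hBn : ∀ n k l, X n (Sum.inr k) (Sum.inr l) = Bn n k l := by
    intro n
    induction n with
    | zero => exact hB0
    | succ n ih =>
      intro k l
      show _ = ((powP p R).mapMatrix (Bn n) * B) k l
      rw [hXs, Matrix.mul_apply, Matrix.mul_apply, Fintype.sum_sum_type,
        Finset.sum_eq_zero (s := (Finset.univ : Finset ιT)) (fun a _ => by rw [hT0 0, mul_zero]), zero_add]
      refine Finset.sum_congr rfl fun j _ => ?_
      rw [hB0]
      show powP p R (X n _ _) * _ = powP p R (Bn n k j) * _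
      rw [ih]
  constructor
  · rintro ⟨Vs', hVs', n, hn⟩
    rw [vSharp_unique D hVs' hVs] at hn
    refine ⟨n + 1, n.succ_pos, ?_⟩
    rw [list_prod_eq_rec]
    ext k l
    show Bn n k l = 0
    rw [← hBn, (hnil n).mp hn]
    rfl
  · rintro ⟨N, hN0, hprod⟩
    obtain ⟨n, rfl⟩ := Nat.exists_eq_succ_of_ne_zero hN0.ne'
    rw [list_prod_eq_rec] at hprod
    have hz : Bn n = 0 := hprod
    refine ⟨Vs, hVs, n + 1, (hnil (n + 1)).mpr ?_⟩
    ext i j
    rw [hXs, Matrix.mul_apply, Matrix.zero_apply]
    refine Finset.sum_eq_zero fun l _ => ?_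
    rcases l with a | l
    · rw [hT0 0, mul_zero]
    rcases i with a | k
    · show powP p R (X n _ _) * _ = 0
      rw [hT0, map_zero, zero_mul]
    · show powP p R (X n _ _) * _ = 0
      rw [hBn, hz, Matrix.zero_apply, map_zero, zero_mul]

end Groth.Agent.H27Disp
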