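import Groth.Agent.H27Disp.SqZero
import Groth.Prelude.Def_Disp2

/-! # Rigidity of homomorphisms out of a display along a square-zero ideal -/

set_option autoImplicit false

namespace Groth.Agent.H27Disp

open WittVector Dieu

universe u v

variable {p : ℕ} [hp : Fact p.Prime]

theorem coeff_zero_of_mem_IV {R : Type u} [CommRing R] {w : WittVector p R}
    (hw : w ∈ W4c1extbt610.IV p R) : w.coeff 0 = 0 := by
  have : W4c1extbt610.IV p R ≤ RingHom.ker (WittVector.constantCoeff : WittVector p R →+* R) := by
    refine Ideal.span_le.mpr ?_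
    rintro _ ⟨x, rfl⟩
    exact verschiebung_coeff_zero x
  exact this hw

theorem frobenius_pow_succ_apply {R : Type u} [CommRing R] (n : ℕ) (w : WittVector p R) :
    ((WittVector.frobenius : WittVector p R →+* WittVector p R) ^ (n + 1)) w =
      WittVector.frobenius (((WittVector.frobenius : WittVector p R →+* WittVector p R) ^ n) w) := by
  rw [pow_succ']; rfl

theorem map_frobenius {R S : Type u} [CommRing R] [CommRing S] (f : R →+* S) (w : WittVector p R) :
    WittVector.map f (WittVector.frobenius w) = WittVector.frobenius (WittVector.map f w) :=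
  IsPoly.map (frobenius_isPoly p) f w

theorem map_shift {R S : Type u} [CommRing R] [CommRing S] (f : R →+* S) (w : WittVector p R) :
    WittVector.map f (w.shift 1) = (WittVector.map f w).shift 1 := by
  ext n
  simp [map_coeff, shift_coeff]

section Core

variable {S : Type u} [CommRing S]
variable {P : Type v} [AddCommGroup P] [Module (WittVector p S) P]

/-- A semilinear family compatible with `V⁻¹` is recovered from the iterates of `V^#`; in particular it
vanishes if the scalars of `I_R + pW` act as zero on the target. -/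
theorem eq_zero_of_isVNilpotent (D : W4c1extbt610.Display3n p S P) (hD : Dieu.IsDisplay D)
    {N : Type*} [AddCommGroup N] [Module (WittVector p S) N] (U : N →+ N)
    (hU : ∀ (w : WittVector p S) z, U (w • z) = WittVector.frobenius w • U z)
    (φ : P →ₗ[WittVector p S] N) (hφ : ∀ q : D.Q, φ (D.Vinv q) = U (φ q))
    (hkill : ∀ w ∈ W4c1extbt610.IV p S ⊔ Ideal.span {(p : WittVector p S)}, ∀ z : N, w • z = 0) :
    φ = 0 := by
  classical
  obtain ⟨Vs, hVs, m, hm⟩ := hD
  have hUn : ∀ (k : ℕ) (w : WittVector p S) (z : N), U^[k] (w • z) = ((WittVector.frobenius : WittVector p S →+* WittVector p S) ^ k) w • U^[k] z := by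
    intro k
    induction k with
    | zero => intro w z; rfl
    | succ k ih => intro w z; rw [Function.iterate_succ_apply', Function.iterate_succ_apply', ih, hU, frobenius_pow_succ_apply]
  let h : ∀ k : ℕ, P →ₛₗ[(WittVector.frobenius : WittVector p S →+* WittVector p S) ^ k] N := fun k =>
    { toFun := fun x => U^[k] (φ x)
      map_add' := fun x y => by rw [map_add, iterate_map_add]
      map_smul' := fun w x => by rw [map_smul, hUn] }
  have key : ∀ k : ℕ, ∀ x : P, BC.lift ((WittVector.frobenius : WittVector p S →+* WittVector p S) ^ (k + 1)) (h (k + 1)) (vSharpPow Vs k x) = φ x := by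
    have h1 : ∀ x : P, BC.lift (WittVector.frobenius : WittVector p S →+* WittVector p S)
        ({ toFun := fun y => U (φ y)
           map_add' := fun y z => by rw [map_add, map_add]
           map_smul' := fun w y => by rw [map_smul, hU] } : P →ₛₗ[(WittVector.frobenius : WittVector p S →+* WittVector p S)] N) (Vs x) = φ x := by
      intro x
      have hx : x ∈ Submodule.span (WittVector p S) (Set.range D.Vinv) := by
        rw [D.span_range_Vinv]; trivial
      induction hx using Submodule.span_induction with
      | mem y hy =>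
        obtain ⟨q, rfl⟩ := hy
        have := hVs.app_smul_Vinv 1 q
        rw [one_smul] at this
        rw [this, BC.lift_tmul, one_smul, hφ]
        rfl
      | zero => simp
      | add y z _ _ hy hz => simp only [map_add, hy, hz]
      | smul a y _ hy => simp only [map_smul, hy]
    intro k
    induction k with
    | zero =>
      intro x
      rw [vSharpPow_zero_apply]
      conv_rhs => rw [← h1 x]
      generalize Vs x = ζ
      induction ζ using BC.induction_on with
      | zero => simp
      | tmul b y => simp [h]
      | add a b ha hb => simp only [map_add, ha, hb]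
    | succ k ih =>
      intro x
      rw [vSharpPow_succ_apply]
      conv_rhs => rw [← h1 x]
      generalize Vs x = ζ
      induction ζ using BC.induction_on with
      | zero => simp
      | tmul b y =>
        rw [BC.map_tmul, BC.lift_tmul, BC.lift_tmul, map_smul, map_smul]
        congr 1
        show _ = U (φ y)
        rw [← ih y]
        generalize vSharpPow Vs k y = η
        induction η using BC.induction_on with
        | zero => simp
        | tmul c z =>
          rw [BC.push_tmul, BC.castHom_tmul, BC.lift_tmul, BC.lift_tmul, hU]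
          congr 1
          show U^[k + 1 + 1] (φ z) = U (U^[k + 1] (φ z))
          rw [Function.iterate_succ_apply']
        | add a b ha hb => simp only [map_add, ha, hb]
      | add a b ha hb => simp only [map_add, ha, hb]
  ext x
  rw [LinearMap.zero_apply, ← key m x]
  refine Submodule.smul_induction_on (p := fun z => BC.lift _ (h (m + 1)) z = 0) (hm x)
    (fun w hw z _ => ?_) (fun a b ha hb => ?_)
  · rw [map_smul]; exact hkill w hw _
  · rw [map_add, ha, hb, add_zero]

end Core

section Step

variable {S T : Type u} [CommRing S] [CommRing T] (f : S →+* T)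
variable {P P' : Type v} [AddCommGroup P] [Module (WittVector p S) P] [AddCommGroup P'] [Module (WittVector p S) P']

/-- The congruence for `V⁻¹` on the target: coordinates of `V'⁻¹ q` from shifted coordinates of `q`. -/
theorem vinv_congr (D' : W4c1extbt610.Display3n p S P') (I : Ideal T)
    (h2 : ∀ a ∈ I, ∀ b ∈ I, a * b = 0) {n : ℕ}
    (i : P' →ₗ[WittVector p S] (Fin n → WittVector p S)) (v : Fin n → P')
    (hv : ∀ z, z = ∑ j, i z j • v j)
    (q : D'.Q) (hq : ∀ j, WittVector.map f (i (q : P') j) ∈ WI I) (k : Fin n) :
    WittVector.map f (i (D'.Vinv q) k) =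
      ∑ j, (WittVector.map f (i (q : P') j)).shift 1 * WittVector.map f (i (D'.F (v j)) k) := by
  classical
  obtain ⟨L, T', hLT, hQ⟩ := D'.exists_normal
  have hdec : ∀ z, ∃ l ∈ L, ∃ t ∈ T', l + t = z := fun z =>
    Submodule.mem_sup.mp (hLT.sup_eq_top ▸ Submodule.mem_top)
  choose l hl t ht hlt using hdec
  have hLQ : ∀ z, l z ∈ D'.Q := fun z => hQ ▸ Submodule.mem_sup_left (hl z)
  set c : Fin n → WittVector p S := fun j => i (q : P') j with hc
  have hVmem : ∀ (w : WittVector p S) (z : P'), verschiebung w • z ∈ D'.Q := fun w z =>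
    D'.IV_smul_le (Submodule.smul_mem_smul (W4c1extbt610.verschiebung_mem_IV p S w) Submodule.mem_top)
  let A : D'.Q := ∑ j, teichmuller p ((c j).coeff 0) • (⟨l (v j), hLQ _⟩ : D'.Q)
  let B : D'.Q := ∑ j, (⟨verschiebung ((c j).shift 1) • v j, hVmem _ _⟩ : D'.Q)
  set τ : P' := ∑ j, teichmuller p ((c j).coeff 0) • t (v j) with hτ
  have hqeq : (q : P') = A + τ + B := by
    conv_lhs => rw [hv q]
    simp only [A, B, τ, Submodule.coe_sum, Submodule.coe_smul, ← Finset.sum_add_distrib, ← smul_add, hlt,
      ← add_smul, ← H27Witt.eq_teichmuller_add_verschiebung, hc]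
  have hτQ : τ ∈ D'.Q := by
    have : τ = (q : P') - A - B := by rw [hqeq]; abel
    rw [this]
    exact sub_mem (sub_mem q.2 A.2) B.2
  have hτT : τ ∈ T' := sum_mem fun j _ => Submodule.smul_mem _ _ (ht _)
  have hτIV : τ ∈ W4c1extbt610.IV p S • (⊤ : Submodule (WittVector p S) P') := by
    rw [hQ, Submodule.mem_sup] at hτQ
    obtain ⟨a, ha, b, hb, hab⟩ := hτQ
    have hb' : b ∈ T' := Submodule.smul_le_right hb
    have : a = 0 := by
      have hat : a ∈ T' := by
        have : a = τ - b := by rw [← hab]; abel
        rw [this]; exact sub_mem hτT hb'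
      exact Submodule.disjoint_def.mp hLT.disjoint a ha hat
    rw [this, zero_add] at hab
    exact Submodule.smul_mono le_rfl le_top (hab ▸ hb)
  set x : Fin n → WittVector p S := fun m => i τ m with hx
  have hx0 : ∀ m, (x m).coeff 0 = 0 := fun m => by
    refine coeff_zero_of_mem_IV ?_
    refine Submodule.smul_induction_on (p := fun z => i z m ∈ W4c1extbt610.IV p S) hτIV
      (fun w hw z _ => ?_) (fun a b ha hb => ?_)
    · simpa using Ideal.mul_mem_right _ _ hw
    · simpa using add_mem ha hb
  have hxV : ∀ m, x m = verschiebung ((x m).shift 1) := fun m => by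
    conv_lhs => rw [H27Witt.eq_teichmuller_add_verschiebung (x m), hx0, teichmuller_zero, zero_add]
  have hxzero : ∀ m, WittVector.map f (x m) = 0 := fun m => by
    have h1 : WittVector.map f (x m) =
        teichmuller p (∑ j, f ((c j).coeff 0) * (WittVector.map f (i (t (v j)) m)).coeff 0) := by
      have hc0 : ∀ j, f ((c j).coeff 0) ∈ I := fun j => by
        have := (mem_WI I).mp (hq j) 0
        rwa [map_coeff] at this
      simp only [hx, hτ, map_sum, map_smul, Finset.sum_apply, Pi.smul_apply, smul_eq_mul, map_mul,
        map_teichmuller]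
      rw [← sum_teichmuller_of_mem h2 _ _ (fun j _ => Ideal.mul_mem_right _ _ (hc0 j))]
      exact Finset.sum_congr rfl fun j _ => teichmuller_mul_of_mem h2 (hc0 j) _
    have h0 := congrArg (fun w => w.coeff 0) h1
    simp only [map_coeff, hx0, map_zero, teichmuller_coeff_zero] at h0
    rw [h1]
    simp only [map_coeff] at h0 ⊢
    rw [← h0, teichmuller_zero]
  let τ' : D'.Q := ∑ m, (⟨verschiebung ((x m).shift 1) • v m, hVmem _ _⟩ : D'.Q)
  have hτ' : (τ' : P') = τ := by
    conv_rhs => rw [hv τ]
    simp only [τ', Submodule.coe_sum]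
    exact Finset.sum_congr rfl fun m _ => by rw [← hxV]
  have hq' : q = A + τ' + B := Subtype.ext (by simp only [Submodule.coe_add, hτ', ← hqeq])
  conv_lhs => rw [hq']
  simp only [A, τ', B, map_add, map_sum, LinearMap.map_smulₛₗ, D'.Vinv_verschiebung_smul, RingHom.id_apply,
    Finset.sum_apply, Pi.add_apply, Pi.smul_apply, smul_eq_mul, map_mul, map_smul, map_shift, hxzero,
    frobenius_teichmuller', map_teichmuller]
  have hfc : ∀ j, f ((c j).coeff 0 ^ p) = 0 := fun j => (map_pow f _ p).trans <|
    pow_eq_zero_of_mem h2 (by have := (mem_WI I).mp (hq j) 0; rwa [map_coeff] at this) hp.out.two_le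
  have hs0 : (0 : WittVector p T).shift 1 = 0 := by ext m; simp [shift_coeff]
  simp only [hfc, teichmuller_zero, hs0]
  simp [hc]

/-- If a homomorphism out of a display has coordinates in `W(I)`, `I² = 0 = pI`, they vanish. -/
theorem step (D : W4c1extbt610.Display3n p S P) (hD : Dieu.IsDisplay D)
    (D' : W4c1extbt610.Display3n p S P') {ψ : P →ₗ[WittVector p S] P'} (hψ : W4c1extbt610.IsHom D D' ψ)
    {n : ℕ} (i : P' →ₗ[WittVector p S] (Fin n → WittVector p S)) (v : Fin n → P')
    (hv : ∀ z, z = ∑ j, i z j • v j)
    (I : Ideal T) (h2 : ∀ a ∈ I, ∀ b ∈ I, a * b = 0) (hpI : ∀ a ∈ I, (p : T) * a = 0)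
    (hmem : ∀ x j, WittVector.map f (i (ψ x) j) ∈ WI I) (x : P) (j : Fin n) :
    WittVector.map f (i (ψ x) j) = 0 := by
  classical
  let π := WittVector.map (p := p) f
  letI : Module (WittVector p S) (Fin n → ↥(WI (p := p) I)) := Module.compHom _ π
  have hsmul : ∀ (w : WittVector p S) (z : Fin n → ↥(WI (p := p) I)) (k : Fin n),
      ((w • z) k : WittVector p T) = π w * z k := fun w z k => rfl
  let M : Fin n → Fin n → WittVector p T := fun j k => π (i (D'.F (v j)) k)
  let U : (Fin n → ↥(WI (p := p) I)) →+ (Fin n → ↥(WI (p := p) I)) := AddMonoidHom.mk'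
    (fun z k => ⟨∑ j, (z j : WittVector p T).shift 1 * M j k,
      sum_mem fun j _ => Ideal.mul_mem_right _ _ (shift_mem I (z j).2)⟩)
    (fun a b => by
      funext k
      apply Subtype.ext
      simp [shift_add h2 (a _).2 (b _).2, add_mul, Finset.sum_add_distrib])
  have hU : ∀ (w : WittVector p S) z, U (w • z) = WittVector.frobenius w • U z := fun w z => by
    funext k
    apply Subtype.ext
    rw [hsmul]
    simp only [U, AddMonoidHom.mk'_apply, Finset.mul_sum]
    refine Finset.sum_congr rfl fun j _ => ?_
    rw [hsmul, shift_mul h2 (z j).2, map_frobenius f w, mul_assoc]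
  let φ : P →ₗ[WittVector p S] (Fin n → ↥(WI (p := p) I)) :=
    { toFun := fun y k => ⟨π (i (ψ y) k), hmem y k⟩
      map_add' := fun a b => by funext k; apply Subtype.ext; simp [π]
      map_smul' := fun w a => by
        funext k; apply Subtype.ext
        rw [RingHom.id_apply, hsmul]
        simp [π] }
  have hφ : ∀ q : D.Q, φ (D.Vinv q) = U (φ q) := fun q => by
    funext k
    apply Subtype.ext
    show π (i (ψ (D.Vinv q)) k) = ∑ j, (π (i (ψ q) j)).shift 1 * M j k
    rw [hψ.comm_Vinv q]
    exact vinv_congr f D' I h2 i v hv ⟨ψ q, hψ.mapsTo q q.2⟩ (hmem q) k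
  have hkill : ∀ w ∈ W4c1extbt610.IV p S ⊔ Ideal.span {(p : WittVector p S)},
      ∀ z : Fin n → ↥(WI (p := p) I), w • z = 0 := by
    intro w hw z
    funext k
    apply Subtype.ext
    rw [hsmul]
    show π w * (z k : WittVector p T) = 0
    rw [Submodule.mem_sup] at hw
    obtain ⟨a, ha, b, hb, rfl⟩ := hw
    obtain ⟨c, rfl⟩ := Ideal.mem_span_singleton'.mp hb
    have hb0 : π (c * p) * (z k : WittVector p T) = 0 := by
      rw [map_mul, map_natCast, mul_assoc, natCast_p_mul_eq_zero h2 hpI (z k).2, mul_zero]
    have ha0 : π a * (z k : WittVector p T) = 0 := by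
      rw [show a = verschiebung (a.shift 1) by
        conv_lhs => rw [H27Witt.eq_teichmuller_add_verschiebung a, coeff_zero_of_mem_IV ha, teichmuller_zero,
          zero_add]]
      simp only [π, map_verschiebung]
      exact verschiebung_mul_eq_zero h2 hpI (z k).2 _
    rw [map_add, add_mul, ha0, hb0, add_zero]
  have h := eq_zero_of_isVNilpotent D hD U hU φ hφ hkill
  have := congrArg Subtype.val (congrFun (LinearMap.congr_fun h x) j)
  exact this

end Step

end Groth.Agent.H27Disp
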