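import Mathlib
import Groth.Agent.H27Witt.TeichMul
import Groth.Agent.H3CAlg.WittHomog

/-! # Witt vectors with components in a square-zero ideal killed by `p` -/

namespace Groth.Agent.H27Disp

open WittVector


universe u

variable {p : ℕ} [hp : Fact p.Prime]

theorem frobenius_teichmuller' {R : Type u} [CommRing R] (r : R) :
    WittVector.frobenius (teichmuller p r) = teichmuller p (r ^ p) := by
  let X : MvPolynomial (ULift.{u} Unit) ℤ := MvPolynomial.X ⟨()⟩
  have h : WittVector.frobenius (teichmuller p X) = teichmuller p (X ^ p) := by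
    refine map_injective (MvPolynomial.map (Int.castRingHom ℚ))
      (MvPolynomial.map_injective _ Int.cast_injective) ?_
    apply (ghostMap.bijective_of_invertible p (MvPolynomial (ULift.{u} Unit) ℚ)).1
    funext n
    have hF : WittVector.map (MvPolynomial.map (Int.castRingHom ℚ)) (WittVector.frobenius (teichmuller p X)) =
        WittVector.frobenius (WittVector.map (MvPolynomial.map (Int.castRingHom ℚ)) (teichmuller p X)) :=
      IsPoly.map (frobenius_isPoly p) (MvPolynomial.map (Int.castRingHom ℚ)) (teichmuller p X)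
    rw [hF, ghostMap_apply, ghostMap_apply, ghostComponent_frobenius, map_teichmuller, map_teichmuller,
      ghostComponent_teichmuller, ghostComponent_teichmuller, map_pow, ← pow_mul, pow_succ']
  let φ : MvPolynomial (ULift.{u} Unit) ℤ →+* R := MvPolynomial.eval₂Hom (Int.castRingHom R) (fun _ => r)
  have h' := congrArg (WittVector.map φ) h
  have hF : WittVector.map φ (WittVector.frobenius (teichmuller p X)) =
      WittVector.frobenius (WittVector.map φ (teichmuller p X)) := IsPoly.map (frobenius_isPoly p) φ (teichmuller p X)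
  rw [hF, map_teichmuller, map_teichmuller, map_pow] at h'
  simpa [φ, X] using h'

variable {T : Type u} [CommRing T] (I : Ideal T)

/-- Witt vectors with components in `I`. -/
noncomputable def WI : Ideal (WittVector p T) := RingHom.ker (WittVector.map (Ideal.Quotient.mk I))

theorem mem_WI {x : WittVector p T} : x ∈ WI I ↔ ∀ n, x.coeff n ∈ I := by
  rw [WI, RingHom.mem_ker, WittVector.ext_iff]
  simp only [map_coeff, zero_coeff, Ideal.Quotient.eq_zero_iff_mem]

theorem shift_mem {x : WittVector p T} (hx : x ∈ WI I) : x.shift 1 ∈ WI I :=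
  (mem_WI I).mpr fun n => by rw [shift_coeff]; exact (mem_WI I).mp hx _

variable {I} (h2 : ∀ a ∈ I, ∀ b ∈ I, a * b = 0)
include h2

theorem coeff_add_of_mem {x y : WittVector p T} (hx : x ∈ WI I) (hy : y ∈ WI I) (n : ℕ) :
    (x + y).coeff n = x.coeff n + y.coeff n := by
  classical
  rw [add_coeff]
  refine (H3CAlg.wittAdd_eval_linear p n _ _ fun e he => ?_).trans rfl
  have hv : ∀ z, Function.uncurry ![x.coeff, y.coeff] z ∈ I := by
    rintro ⟨i, k⟩
    fin_cases i
    · exact (mem_WI I).mp hx k
    · exact (mem_WI I).mp hy k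
  have hmem : ∀ s : Finset (Fin 2 × ℕ), ∀ d : Fin 2 × ℕ → ℕ, 2 ≤ ∑ z ∈ s, d z →
      ∏ z ∈ s, Function.uncurry ![x.coeff, y.coeff] z ^ d z ∈ I * I := by
    intro s d hd
    have : ∀ s : Finset (Fin 2 × ℕ), ∏ z ∈ s, Function.uncurry ![x.coeff, y.coeff] z ^ d z ∈ I ^ (∑ z ∈ s, d z) := by
      intro s
      rw [← Finset.prod_pow_eq_pow_sum]
      exact Ideal.prod_mem_prod fun z _ => Ideal.pow_mem_pow (hv z) _
    rw [← pow_two]
    exact Ideal.pow_le_pow_right hd (this s)
  have hII : I * I = ⊥ := by
    rw [eq_bot_iff, Ideal.mul_le]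
    exact fun a ha b hb => (Submodule.mem_bot T).mpr (h2 a ha b hb)
  simpa [hII] using hmem e.support e (hp.out.two_le.trans he)

theorem shift_add {x y : WittVector p T} (hx : x ∈ WI I) (hy : y ∈ WI I) :
    (x + y).shift 1 = x.shift 1 + y.shift 1 := by
  ext n
  rw [coeff_add_of_mem h2 (shift_mem I hx) (shift_mem I hy), shift_coeff, shift_coeff, shift_coeff,
    coeff_add_of_mem h2 hx hy]

theorem pow_eq_zero_of_mem {a : T} (ha : a ∈ I) {k : ℕ} (hk : 2 ≤ k) : a ^ k = 0 := by
  obtain ⟨j, rfl⟩ : ∃ j, k = 2 + j := ⟨k - 2, by omega⟩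
  rw [pow_add, pow_two, h2 a ha a ha, zero_mul]

theorem teichmuller_mul_of_mem {a : T} (ha : a ∈ I) (w : WittVector p T) :
    teichmuller p a * w = teichmuller p (a * w.coeff 0) := by
  ext n
  rw [H27Witt.teichmuller_mul_coeff]
  cases n with
  | zero => rw [teichmuller_coeff_zero, pow_zero, pow_one]
  | succ n =>
    rw [teichmuller_coeff_pos _ _ _ n.succ_pos, pow_eq_zero_of_mem h2 ha
      (hp.out.two_le.trans (Nat.le_self_pow n.succ_ne_zero p)), zero_mul]

theorem sum_teichmuller_of_mem {ι : Type*} (s : Finset ι) (a : ι → T) (ha : ∀ j ∈ s, a j ∈ I) :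
    ∑ j ∈ s, teichmuller p (a j) = teichmuller p (∑ j ∈ s, a j) := by
  classical
  induction s using Finset.induction with
  | empty => simp [teichmuller_zero]
  | insert b s hb ih =>
    have hmem : ∀ c ∈ I, teichmuller p c ∈ WI I := fun c hc => (mem_WI I).mpr fun n => by
      cases n with
      | zero => simpa [teichmuller_coeff_zero] using hc
      | succ n => simp [teichmuller_coeff_pos _ _ _ n.succ_pos]
    have hs : ∀ j ∈ s, a j ∈ I := fun j hj => ha j (Finset.mem_insert_of_mem hj)
    rw [Finset.sum_insert hb, Finset.sum_insert hb, ih hs]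
    ext n
    rw [coeff_add_of_mem h2 (hmem _ (ha b (Finset.mem_insert_self b s))) (hmem _ (Submodule.sum_mem I hs))]
    cases n with
    | zero => simp [teichmuller_coeff_zero]
    | succ n => simp [teichmuller_coeff_pos _ _ _ n.succ_pos]

theorem shift_mul {w a : WittVector p T} (ha : a ∈ WI I) :
    (w * a).shift 1 = WittVector.frobenius w * a.shift 1 := by
  have h0 := (mem_WI I).mp ha 0
  conv_lhs => rw [H27Witt.eq_teichmuller_add_verschiebung a, mul_add, mul_comm w (teichmuller p _),
    teichmuller_mul_of_mem h2 h0, mul_comm w (verschiebung _), ← verschiebung_mul_frobenius]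
  ext n
  rw [shift_coeff, coeff_add_of_disjoint, teichmuller_coeff_pos _ _ _ (by omega), zero_add, add_comm 1 n,
    verschiebung_coeff_succ, mul_comm]
  intro i
  cases i with
  | zero => exact Or.inr (verschiebung_coeff_zero _)
  | succ i => exact Or.inl (teichmuller_coeff_pos p _ _ i.succ_pos)

variable (hpI : ∀ a ∈ I, (p : T) * a = 0)
include hpI

theorem natCast_p_mul_eq_zero {a : WittVector p T} (ha : a ∈ WI I) : (p : WittVector p T) * a = 0 := by
  have : ∀ (k : ℕ) (n : ℕ), (k • a).coeff n = k • a.coeff n := by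
    intro k
    induction k with
    | zero => simp
    | succ k ih =>
      intro n
      rw [add_smul, one_smul, coeff_add_of_mem h2 ((WI I).nsmul_mem ha k) ha, ih, add_smul, one_smul]
  ext n
  rw [← nsmul_eq_mul, this, nsmul_eq_mul, hpI _ ((mem_WI I).mp ha n), zero_coeff]

theorem frobenius_eq_zero {a : WittVector p T} (ha : a ∈ WI I) : WittVector.frobenius a = 0 := by
  conv_lhs => rw [H27Witt.eq_teichmuller_add_verschiebung a, map_add, frobenius_teichmuller',
    frobenius_verschiebung, mul_comm, pow_eq_zero_of_mem h2 ((mem_WI I).mp ha 0) hp.out.two_le,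
    teichmuller_zero, zero_add, natCast_p_mul_eq_zero h2 hpI (shift_mem I ha)]

theorem verschiebung_mul_eq_zero {a : WittVector p T} (ha : a ∈ WI I) (u : WittVector p T) :
    verschiebung u * a = 0 := by
  rw [← verschiebung_mul_frobenius, frobenius_eq_zero h2 hpI ha, mul_zero, map_zero]

end Groth.Agent.H27Disp
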